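import Cfsg.Agent.H54.CentralG2
import Cfsg.Agent.H52.SevenSupport

/-!
The radical of `U` in `D₄`, characteristic 2, in coordinates.
-/

set_option autoImplicit false
set_option linter.unusedSectionVars false

open Cfsg.Lie
open scoped MatrixGroups

namespace H35.D4Invol

open H54

/-- Coordinates on the product of the root subgroups 14,19,16,15,17,20,21,22,23. -/
@[ext] structure Vec (K : Type*) where
  k : K
  u0 : K
  u1 : K
  u2 : K
  w0 : K
  w1 : K
  w2 : K
  s : K
  e : K

variable {K : Type*} [Field K]

/-- The product of root elements. -/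
noncomputable def raw (v : Vec K) : GL chevD4.Idx K :=
  H52.rt chevD4 14 v.k * H52.rt chevD4 19 v.u0 * H52.rt chevD4 16 v.u1 * H52.rt chevD4 15 v.u2 *
    H52.rt chevD4 17 v.w0 * H52.rt chevD4 20 v.w1 * H52.rt chevD4 21 v.w2 *
    H52.rt chevD4 22 v.s * H52.rt chevD4 23 v.e

/-- The product law. -/
def Vec.add' (v w : Vec K) : Vec K :=
  ⟨v.k + w.k, v.u0 + w.u0, v.u1 + w.u1, v.u2 + w.u2, v.w0 + w.w0, v.w1 + w.w1, v.w2 + w.w2,
    v.s + w.s, v.e + w.e + (v.s * w.k + v.w0 * w.u0 + v.w1 * w.u1 + v.w2 * w.u2)⟩

/-- The zero vector. -/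
def Vec.zero' : Vec K := ⟨0, 0, 0, 0, 0, 0, 0, 0, 0⟩

variable (C : Ctx chevD4) [CharP K 2]

local notation "x" => H52.rt chevD4

include C

theorem x_mul (r : ℕ) (a b : K) : x r a * x r b = x r (a + b) := C.hC.rt_mul r a b

theorem x_zero (r : ℕ) : x r (0 : K) = 1 := C.hC.rt_zero r

theorem x_inv (r : ℕ) (a : K) : (x r a)⁻¹ = x r a := by
  rw [C.hC.rt_inv, CharTwo.neg_eq]

theorem x_self (r : ℕ) (a : K) : x r a * x r a = 1 := by
  rw [x_mul C, CharTwo.add_self_eq_zero, x_zero C]

theorem x_comm {r s : ℕ} (hr : r < 24) (hs : s < 24) (h : evenComm chevD4 r s = true) (a b : K) :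
    x r a * x s b = x s b * x r a :=
  (C.commute_of_evenComm hr hs h a b).eq

theorem x_comm_mul {r s : ℕ} (hr : r < 24) (hs : s < 24) (h : evenComm chevD4 r s = true) (a b : K)
    (g : GL chevD4.Idx K) : x r a * (x s b * g) = x s b * (x r a * g) := by
  rw [← mul_assoc, x_comm C hr hs h, mul_assoc]

omit C in
/-- The check that `x_r x_s x_r = x_s x_k(ab)`. -/
def singleCheck (r s k : ℕ) : Bool :=
  decide (r < 24 ∧ s < 24 ∧ k < 24 ∧ s ≠ r ∧ s ≠ chevD4.neg r) && evenComm chevD4 k r &&
    (match chevD4.commTerms r s with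
      | [(k', m, 1, 1)] => k' == k && decide (m % 2 = 1)
      | _ => false)

theorem x_conj {r s k : ℕ} (h : singleCheck r s k = true) (a b : K) :
    x r a * x s b * x r a = x s b * x k (a * b) := by
  simp only [singleCheck, Bool.and_eq_true, decide_eq_true_eq] at h
  obtain ⟨⟨⟨h1, h2, h3, h4, h5⟩, h6⟩, h7⟩ := h
  split at h7
  · next k' m heq =>
    simp only [Bool.and_eq_true, beq_iff_eq, decide_eq_true_eq] at h7
    obtain ⟨rfl, hm⟩ := h7
    have := C.conj_single (F := K) (r := r) (s := s) (k := k') (m := m) h1 h2 h4 h5 h3 heq hm h6 a b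
    rwa [x_inv C] at this
  · exact absurd h7 (by decide)

/-- Swapping two roots whose sum is 23. -/
theorem x_swap {r s : ℕ} (h : singleCheck r s 23 = true) (hr : evenComm chevD4 23 r = true)
    (a b : K) (g : GL chevD4.Idx K) :
    x r a * (x s b * g) = x s b * (x r a * (x 23 (a * b) * g)) := by
  have hr' : r < 24 := by
    simp only [singleCheck, Bool.and_eq_true, decide_eq_true_eq] at h
    exact h.1.1.1
  calc x r a * (x s b * g) = (x r a * x s b * x r a) * (x r a * g) := by
        rw [show x r a * x s b * x r a * (x r a * g) = x r a * x s b * (x r a * x r a) * g by group,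
          x_self C, mul_one, mul_assoc]
    _ = x s b * (x 23 (a * b) * x r a) * g := by rw [x_conj C h]; group
    _ = _ := by rw [x_comm C (by norm_num) hr' hr]; group

theorem raw_zero : raw (Vec.zero' : Vec K) = 1 := by
  simp [raw, Vec.zero', x_zero C]

theorem raw_mul_e (v : Vec K) (b : K) : raw v * x 23 b = raw { v with e := v.e + b } := by
  simp only [raw, mul_assoc, x_mul C]

theorem raw_mul_s (v : Vec K) (b : K) : raw v * x 22 b = raw { v with s := v.s + b } := by
  simp only [raw, mul_assoc]
  rw [x_comm C (r := 23) (s := 22) (by norm_num) (by norm_num) (by decide +kernel), ← mul_assoc (x 22 v.s),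
    x_mul C]

theorem raw_mul_w2 (v : Vec K) (b : K) : raw v * x 21 b = raw { v with w2 := v.w2 + b } := by
  simp only [raw, mul_assoc]
  rw [x_comm C (r := 23) (s := 21) (by norm_num) (by norm_num) (by decide +kernel),
    x_comm_mul C (r := 22) (s := 21) (by norm_num) (by norm_num) (by decide +kernel),
    ← mul_assoc (x 21 v.w2), x_mul C]

theorem raw_mul_w1 (v : Vec K) (b : K) : raw v * x 20 b = raw { v with w1 := v.w1 + b } := by
  simp only [raw, mul_assoc]
  rw [x_comm C (r := 23) (s := 20) (by norm_num) (by norm_num) (by decide +kernel),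
    x_comm_mul C (r := 22) (s := 20) (by norm_num) (by norm_num) (by decide +kernel),
    x_comm_mul C (r := 21) (s := 20) (by norm_num) (by norm_num) (by decide +kernel),
    ← mul_assoc (x 20 v.w1), x_mul C]

theorem raw_mul_w0 (v : Vec K) (b : K) : raw v * x 17 b = raw { v with w0 := v.w0 + b } := by
  simp only [raw, mul_assoc]
  rw [x_comm C (r := 23) (s := 17) (by norm_num) (by norm_num) (by decide +kernel),
    x_comm_mul C (r := 22) (s := 17) (by norm_num) (by norm_num) (by decide +kernel),
    x_comm_mul C (r := 21) (s := 17) (by norm_num) (by norm_num) (by decide +kernel),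
    x_comm_mul C (r := 20) (s := 17) (by norm_num) (by norm_num) (by decide +kernel),
    ← mul_assoc (x 17 v.w0), x_mul C]

theorem raw_mul_u2 (v : Vec K) (b : K) :
    raw v * x 15 b = raw { v with u2 := v.u2 + b, e := v.e + v.w2 * b } := by
  simp only [raw, mul_assoc]
  rw [x_comm C (r := 23) (s := 15) (by norm_num) (by norm_num) (by decide +kernel),
    x_comm_mul C (r := 22) (s := 15) (by norm_num) (by norm_num) (by decide +kernel),
    x_swap C (r := 21) (s := 15) (by decide +kernel) (by decide +kernel),
    x_comm_mul C (r := 20) (s := 15) (by norm_num) (by norm_num) (by decide +kernel),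
    x_comm_mul C (r := 17) (s := 15) (by norm_num) (by norm_num) (by decide +kernel),
    ← mul_assoc (x 15 v.u2), x_mul C,
    x_comm_mul C (r := 23) (s := 22) (by norm_num) (by norm_num) (by decide +kernel),
    x_mul C, add_comm (v.w2 * b)]

theorem raw_mul_u1 (v : Vec K) (b : K) :
    raw v * x 16 b = raw { v with u1 := v.u1 + b, e := v.e + v.w1 * b } := by
  simp only [raw, mul_assoc]
  rw [x_comm C (r := 23) (s := 16) (by norm_num) (by norm_num) (by decide +kernel),
    x_comm_mul C (r := 22) (s := 16) (by norm_num) (by norm_num) (by decide +kernel),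
    x_comm_mul C (r := 21) (s := 16) (by norm_num) (by norm_num) (by decide +kernel),
    x_swap C (r := 20) (s := 16) (by decide +kernel) (by decide +kernel),
    x_comm_mul C (r := 17) (s := 16) (by norm_num) (by norm_num) (by decide +kernel),
    x_comm_mul C (r := 15) (s := 16) (by norm_num) (by norm_num) (by decide +kernel),
    ← mul_assoc (x 16 v.u1), x_mul C,
    x_comm_mul C (r := 23) (s := 21) (by norm_num) (by norm_num) (by decide +kernel),
    x_comm_mul C (r := 23) (s := 22) (by norm_num) (by norm_num) (by decide +kernel),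
    x_mul C, add_comm (v.w1 * b)]

theorem raw_mul_u0 (v : Vec K) (b : K) :
    raw v * x 19 b = raw { v with u0 := v.u0 + b, e := v.e + v.w0 * b } := by
  simp only [raw, mul_assoc]
  rw [x_comm C (r := 23) (s := 19) (by norm_num) (by norm_num) (by decide +kernel),
    x_comm_mul C (r := 22) (s := 19) (by norm_num) (by norm_num) (by decide +kernel),
    x_comm_mul C (r := 21) (s := 19) (by norm_num) (by norm_num) (by decide +kernel),
    x_comm_mul C (r := 20) (s := 19) (by norm_num) (by norm_num) (by decide +kernel),
    x_swap C (r := 17) (s := 19) (by decide +kernel) (by decide +kernel),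
    x_comm_mul C (r := 15) (s := 19) (by norm_num) (by norm_num) (by decide +kernel),
    x_comm_mul C (r := 16) (s := 19) (by norm_num) (by norm_num) (by decide +kernel),
    ← mul_assoc (x 19 v.u0), x_mul C,
    x_comm_mul C (r := 23) (s := 20) (by norm_num) (by norm_num) (by decide +kernel),
    x_comm_mul C (r := 23) (s := 21) (by norm_num) (by norm_num) (by decide +kernel),
    x_comm_mul C (r := 23) (s := 22) (by norm_num) (by norm_num) (by decide +kernel),
    x_mul C, add_comm (v.w0 * b)]

theorem raw_mul_k (v : Vec K) (b : K) :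
    raw v * x 14 b = raw { v with k := v.k + b, e := v.e + v.s * b } := by
  simp only [raw, mul_assoc]
  rw [x_comm C (r := 23) (s := 14) (by norm_num) (by norm_num) (by decide +kernel),
    x_swap C (r := 22) (s := 14) (by decide +kernel) (by decide +kernel),
    x_comm_mul C (r := 21) (s := 14) (by norm_num) (by norm_num) (by decide +kernel),
    x_comm_mul C (r := 20) (s := 14) (by norm_num) (by norm_num) (by decide +kernel),
    x_comm_mul C (r := 17) (s := 14) (by norm_num) (by norm_num) (by decide +kernel),
    x_comm_mul C (r := 15) (s := 14) (by norm_num) (by norm_num) (by decide +kernel),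
    x_comm_mul C (r := 16) (s := 14) (by norm_num) (by norm_num) (by decide +kernel),
    x_comm_mul C (r := 19) (s := 14) (by norm_num) (by norm_num) (by decide +kernel),
    ← mul_assoc (x 14 v.k), x_mul C, x_mul C, add_comm (v.s * b)]

theorem raw_mul (v w : Vec K) : raw v * raw w = raw (v.add' w) := by
  conv_lhs => arg 2; rw [raw]
  simp only [← mul_assoc, raw_mul_k C, raw_mul_u0 C, raw_mul_u1 C, raw_mul_u2 C, raw_mul_w0 C,
    raw_mul_w1 C, raw_mul_w2 C, raw_mul_s C, raw_mul_e C]
  congr 1
  ext <;> simp [Vec.add'] <;> ring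

end H35.D4Invol
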