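import Cfsg.Agent.H35.D4Invol.Twisted

/-!
The involutions of `U¹`: each is conjugate to a long or to a short root element.
-/

set_option autoImplicit false
set_option linter.unusedSectionVars false

open Cfsg.Lie
open scoped MatrixGroups

namespace H35.D4Invol

open H54

variable {K : Type*} [Field K]

/-- The long root representative. -/
noncomputable def repE (K : Type*) [Field K] : GL chevD4.Idx K := raw ⟨0, 0, 0, 0, 0, 0, 0, 0, 1⟩

/-- The short root representative. -/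
noncomputable def repB (K : Type*) [Field K] : GL chevD4.Idx K := raw ⟨0, 1, 1, 1, 0, 0, 0, 0, 0⟩

/-- Conjugate in ³D₄ to one of the representatives. -/
def Rep (K : Type*) [Field K] (q : ℕ) (g : GL chevD4.Idx K) : Prop :=
  ∃ h ∈ twistedD4 K q, h * g * h⁻¹ = repE K ∨ h * g * h⁻¹ = repB K

theorem Rep.of_conj {q : ℕ} {g g' h : GL chevD4.Idx K} (hh : h ∈ twistedD4 K q)
    (e : h * g * h⁻¹ = g') (hr : Rep K q g') : Rep K q g := by
  obtain ⟨k, hk, he⟩ := hr
  refine ⟨k * h, mul_mem hk hh, ?_⟩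
  subst e
  simpa [mul_assoc] using he

theorem sq_conj {g g' h : GL chevD4.Idx K} (e : h * g * h⁻¹ = g') (h2 : g * g = 1) : g' * g' = 1 := by
  subst e
  rw [show h * g * h⁻¹ * (h * g * h⁻¹) = h * (g * g) * h⁻¹ by group, h2]; group

variable (C : Ctx chevD4) [CharP K 2] {q : ℕ} {f : K ≃+* K} (hf : Frob q f)
  [Fintype K] (hq : IsPrimePow q) (hK : Fintype.card K = q ^ 3)

include C hf hq hK

omit hf hq hK [Fintype K] in
theorem conj_raw (p v : Vec K) : raw p * raw v * (raw p)⁻¹ = raw { v with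
    e := v.e + (p.s * v.k + p.w0 * v.u0 + p.w1 * v.u1 + p.w2 * v.u2) +
      (v.s * p.k + v.w0 * p.u0 + v.w1 * p.u1 + v.w2 * p.u2) } := by
  rw [raw_inv C, raw_mul C, raw_mul C]
  congr 1
  have h20 : (2 : K) = 0 := CharTwo.two_eq_zero
  ext <;> simp only [Vec.add']
  · linear_combination p.k * h20
  · linear_combination p.u0 * h20
  · linear_combination p.u1 * h20
  · linear_combination p.u2 * h20
  · linear_combination p.w0 * h20
  · linear_combination p.w1 * h20
  · linear_combination p.w2 * h20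
  · linear_combination p.s * h20
  · linear_combination (p.e + p.s * p.k + p.w0 * p.u0 + p.w1 * p.u1 + p.w2 * p.u2) * h20

omit hf hq hK [Fintype K] in
theorem conj_inv_aa (a b c : K) (v : Vec K) :
    aa a b c * raw v * (aa a b c)⁻¹ = raw (cA a b c v) := by
  rw [← conj_aa C, inv_eq_of_mul_eq_one_left (aa_self C a b c)]

/-- The coordinates of a twisted element are twisted. -/
theorem coord_twisted {v : Vec K} (h : raw v ∈ twistedD4 K q) :
    v = tv f v.k v.u0 v.w0 v.s v.e ∧ f v.k = v.k ∧ f v.s = v.s ∧ f v.e = v.e := by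
  obtain ⟨t, k, u, w, s, e, hk, hs, he, hg⟩ := exists_coord C hf hq hK (raw_pos C hf v) h
  have h' : aa 0 0 0 * raw v = aa t (f t) (f (f t)) * raw (tv f k u w s e) := by
    rw [aa_zero C, one_mul]; exact hg
  obtain ⟨-, -, -, rfl⟩ := coord_inj C h'
  exact ⟨rfl, hk, hs, he⟩

omit hf hq hK [Fintype K] in
theorem raw_eq_one {v : Vec K} (h : raw v = 1) : v = Vec.zero' :=
  (coord_eq_zero C (a := (0 : K)) (b := 0) (c := 0) (by rw [aa_zero C, one_mul, h])).2.2.2

omit hf hq hK [Fintype K] in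
theorem raw_ne {v : Vec K} (h : v ≠ Vec.zero') : raw v ≠ 1 := fun e => h (raw_eq_one C e)

omit hf hq hK [Fintype K] in
theorem sq_cond {v : Vec K} (h : raw v * raw v = 1) :
    v.s * v.k + v.w0 * v.u0 + v.w1 * v.u1 + v.w2 * v.u2 = 0 := by
  have h' := congrArg Vec.e (raw_eq_one C ((raw_mul C v v).symm.trans h))
  simp only [Vec.add', Vec.zero'] at h'
  linear_combination h' - v.e * (CharTwo.two_eq_zero : (2 : K) = 0)

omit C hq hK [Fintype K] in
theorem fixed_of_sq {c a : K} (hc : c * c = a) (ha : f a = a) : f c = c := by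
  have h : f c * f c = c * c := by rw [← map_mul, hc, ha]
  have h2 : (f c - c) * (f c - c) = 0 := by
    linear_combination h - (c * (f c - c)) * (CharTwo.two_eq_zero : (2 : K) = 0)
  exact sub_eq_zero.1 (mul_self_eq_zero.1 h2)

theorem scale_short {u : K} (hu : u ≠ 0) :
    Rep K q (raw ⟨0, u, f u, f (f u), 0, 0, 0, 0, 0⟩) := by
  obtain ⟨c, hc⟩ := FiniteField.isSquare_of_char_two (ringChar.eq K 2) u⁻¹
  have hc0 : c ≠ 0 := by rintro rfl; simp [hu] at hc
  have hN : f (c * (f c * f (f c))) = c * (f c * f (f c)) := by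
    rw [map_mul, map_mul, hf.three]; ring
  have hN0 : c * (f c * f (f c)) ≠ 0 := by simp [hc0]
  have hmem := torus_mem C hf (Units.mk0 c hc0) (Units.mk0 _ hN0) hN
  refine ⟨_, hmem, Or.inr ?_⟩
  set T := H52.torus chevD4 (tc f (Units.mk0 c hc0) (Units.mk0 _ hN0)) with hT
  have e : ∀ z : K, raw ⟨0, z, f z, f (f z), 0, 0, 0, 0, 0⟩ =
      H52.rt chevD4 19 z * (H52.rt chevD4 16 (f z) * H52.rt chevD4 15 (f (f z))) := fun z => by
    simp [raw, x_zero C, mul_assoc]
  have e1 := e 1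
  rw [map_one, map_one] at e1
  rw [repB, e1, e, show ∀ a b d : GL chevD4.Idx K, T * (a * (b * d)) * T⁻¹ =
    (T * a * T⁻¹) * ((T * b * T⁻¹) * (T * d * T⁻¹)) from fun a b d => by group,
    hT, C.hC.torus_conj_rt _ (by decide), C.hC.torus_conj_rt _ (by decide), C.hC.torus_conj_rt _ (by decide)]
  have hcu : c * c * u = 1 := by rw [← hc, inv_mul_cancel₀ hu]
  have hc1 : f c ≠ 0 := by simp [hc0]
  have hc2 : f (f c) ≠ 0 := by simp [hc0]
  have hu1 : f c * f c * f u = 1 := by rw [← map_mul, ← map_mul, hcu, map_one]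
  have hu2 : f (f c) * f (f c) * f (f u) = 1 := by
    rw [← map_mul, ← map_mul, ← map_mul, ← map_mul, hcu, map_one, map_one]
  have hp : ∀ g : Fin chevD4.rank → Kˣ, ∏ i : Fin chevD4.rank, g i =
      g ⟨0, by decide⟩ * g ⟨1, by decide⟩ * g ⟨2, by decide⟩ * g ⟨3, by decide⟩ :=
    fun g => Fin.prod_univ_four (g : Fin 4 → Kˣ)
  have h19 : ((∏ i : Fin chevD4.rank, tc f (Units.mk0 c hc0) (Units.mk0 _ hN0) i ^ chevD4.cartan i.val 19 : Kˣ) : K) * u = 1 := by
    rw [hp]
    simp only [tc, show chevD4.cartan 0 19 = 1 by decide +kernel, show chevD4.cartan 1 19 = 1 by decide +kernel,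
      show chevD4.cartan 2 19 = -1 by decide +kernel, show chevD4.cartan 3 19 = -1 by decide +kernel,
      List.getD_cons_zero, List.getD_cons_succ, zpow_one, zpow_neg_one, Units.val_mul,
      Units.val_inv_eq_inv_val, Units.coe_map, Units.val_mk0]
    show c * (c * (f c * f (f c))) * (f c)⁻¹ * (f (f c))⁻¹ * u = 1
    field_simp
    linear_combination hcu
  have h16 : ((∏ i : Fin chevD4.rank, tc f (Units.mk0 c hc0) (Units.mk0 _ hN0) i ^ chevD4.cartan i.val 16 : Kˣ) : K) * f u = 1 := by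
    rw [hp]
    simp only [tc, show chevD4.cartan 0 16 = -1 by decide +kernel, show chevD4.cartan 1 16 = 1 by decide +kernel,
      show chevD4.cartan 2 16 = 1 by decide +kernel, show chevD4.cartan 3 16 = -1 by decide +kernel,
      List.getD_cons_zero, List.getD_cons_succ, zpow_one, zpow_neg_one, Units.val_mul,
      Units.val_inv_eq_inv_val, Units.coe_map, Units.val_mk0]
    show c⁻¹ * (c * (f c * f (f c))) * f c * (f (f c))⁻¹ * f u = 1
    field_simp
    linear_combination hu1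
  have h15 : ((∏ i : Fin chevD4.rank, tc f (Units.mk0 c hc0) (Units.mk0 _ hN0) i ^ chevD4.cartan i.val 15 : Kˣ) : K) * f (f u) = 1 := by
    rw [hp]
    simp only [tc, show chevD4.cartan 0 15 = -1 by decide +kernel, show chevD4.cartan 1 15 = 1 by decide +kernel,
      show chevD4.cartan 2 15 = -1 by decide +kernel, show chevD4.cartan 3 15 = 1 by decide +kernel,
      List.getD_cons_zero, List.getD_cons_succ, zpow_one, zpow_neg_one, Units.val_mul,
      Units.val_inv_eq_inv_val, Units.coe_map, Units.val_mk0]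
    show c⁻¹ * (c * (f c * f (f c))) * (f c)⁻¹ * f (f c) * f (f u) = 1
    field_simp
    linear_combination hu2
  rw [h19, h16, h15]

theorem scale_long {e : K} (he : e ≠ 0) (hfe : f e = e) :
    Rep K q (raw ⟨0, 0, 0, 0, 0, 0, 0, 0, e⟩) := by
  have hd : f ((Units.mk0 e he)⁻¹ : Kˣ) = ((Units.mk0 e he)⁻¹ : Kˣ) := by
    rw [Units.val_inv_eq_inv_val, Units.val_mk0, map_inv₀, hfe]
  refine ⟨_, torus_mem C hf 1 (Units.mk0 e he)⁻¹ hd, Or.inl ?_⟩
  have hr : ∀ z : K, raw ⟨0, 0, 0, 0, 0, 0, 0, 0, z⟩ = H52.rt chevD4 23 z := fun z => by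
    simp [raw, x_zero C]
  rw [repE, hr, hr, C.hC.torus_conj_rt _ (by decide)]
  congr 1
  rw [show ∀ g : Fin chevD4.rank → Kˣ, ∏ i : Fin chevD4.rank, g i =
      g ⟨0, by decide⟩ * g ⟨1, by decide⟩ * g ⟨2, by decide⟩ * g ⟨3, by decide⟩ from
    fun g => Fin.prod_univ_four (g : Fin 4 → Kˣ)]
  simp [tc, show chevD4.cartan 0 23 = 0 by decide +kernel, show chevD4.cartan 1 23 = 1 by decide +kernel,
    show chevD4.cartan 2 23 = 0 by decide +kernel, show chevD4.cartan 3 23 = 0 by decide +kernel, he]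

theorem short_type {v : Vec K} (hv : raw v ∈ twistedD4 K q) (h2 : raw v * raw v = 1) (hk : v.k = 0)
    (hu : v.u0 ≠ 0) : Rep K q (raw v) := by
  obtain ⟨hv', -, -, -⟩ := coord_twisted C hf hq hK hv
  set u := v.u0
  have e1 : v.u1 = f u := congrArg Vec.u1 hv'
  have e2 : v.u2 = f (f u) := congrArg Vec.u2 hv'
  have e3 : v.w1 = f v.w0 := congrArg Vec.w1 hv'
  have e4 : v.w2 = f (f v.w0) := congrArg Vec.w2 hv'
  have htr := sq_cond C h2
  rw [hk, mul_zero, zero_add, e1, e2, e3, e4] at htr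
  have hu1 : f u ≠ 0 := by simp [hu]
  have hu2 : f (f u) ≠ 0 := by simp [hu]
  -- kill `w`
  set N := u * f u * f (f u) with hN
  have hfN : f N = N := by rw [hN, map_mul, map_mul, hf.three]; ring
  have hN0 : N ≠ 0 := by rw [hN]; exact mul_ne_zero (mul_ne_zero hu hu1) hu2
  set z := u * u * v.w0 / N with hz
  have ez := conj_inv_aa C z (f z) (f (f z)) v
  refine Rep.of_conj (tA_mem C hf z) ez ?_
  have hv1 := mul_mem (mul_mem (tA_mem C hf z) hv) (inv_mem (tA_mem C hf z))
  rw [tA, ez] at hv1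
  obtain ⟨h1v, -, hs1, -⟩ := coord_twisted C hf hq hK hv1
  set v1 := cA z (f z) (f (f z)) v with hv1d
  have hk1 : v1.k = 0 := by rw [hv1d]; simp [cA, c18, c13, c12, hk]
  have hu1' : v1.u0 = u := by rw [hv1d]; simp [cA, c18, c13, c12, hk, u]
  have hw1' : v1.w0 = 0 := by
    rw [hv1d]
    simp only [cA, c18, c13, c12, hk, e1, e2, mul_zero, add_zero]
    simp only [hz, map_div₀, map_mul, hfN]
    field_simp
    linear_combination (f u * f (f u)) * htr + v.w0 * hN
  have h21 := sq_conj ez (by exact h2)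
  rw [hk1, hu1', hw1'] at h1v
  -- kill `s`
  obtain ⟨c, hc⟩ := FiniteField.isSquare_of_char_two (ringChar.eq K 2) (v1.s / N)
  have hfc : f c = c := fixed_of_sq hf hc.symm (by rw [map_div₀, hs1, hfN])
  have ec := conj_inv_aa C (c * u) (f (c * u)) (f (f (c * u))) v1
  refine Rep.of_conj (tA_mem C hf (c * u)) ec ?_
  have hv2 := mul_mem (mul_mem (tA_mem C hf (c * u)) hv1) (inv_mem (tA_mem C hf (c * u)))
  rw [tA, ec] at hv2
  obtain ⟨h2v, -, -, he2⟩ := coord_twisted C hf hq hK hv2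
  set v2 := cA (c * u) (f (c * u)) (f (f (c * u))) v1 with hv2d
  have h20 : (2 : K) = 0 := CharTwo.two_eq_zero
  have hk2 : v2.k = 0 := by rw [hv2d, h1v]; simp [cA, c18, c13, c12, tv]
  have hu2' : v2.u0 = u := by rw [hv2d, h1v]; simp [cA, c18, c13, c12, tv]
  have hw2' : v2.w0 = 0 := by
    rw [hv2d, h1v]
    simp only [cA, c18, c13, c12, tv, mul_zero, add_zero, zero_add, map_zero, map_mul, hfc]
    linear_combination (c * f u * f (f u)) * h20
  have hs2' : v2.s = 0 := by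
    rw [hv2d, h1v]
    simp only [cA, c18, c13, c12, tv, mul_zero, add_zero, zero_add, map_zero, map_mul, hfc]
    have hcN : c * c * N = v1.s := by rw [← hc, div_mul_cancel₀ _ hN0]
    rw [← hcN, hN]
    linear_combination (2 * (c * c * (u * f u * f (f u)))) * h20
  rw [hk2, hu2', hw2', hs2'] at h2v
  -- kill `e`
  set p : Vec K := tv f 0 0 (v2.e / u) 0 0 with hp
  have ep := conj_raw C p v2
  have hpm : raw p ∈ twistedD4 K q := tv_mem C hf 0 _ (map_zero f) (map_zero f) (map_zero f)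
  refine Rep.of_conj hpm ep ?_
  have hlast : ({ v2 with e := v2.e + (p.s * v2.k + p.w0 * v2.u0 + p.w1 * v2.u1 + p.w2 * v2.u2) +
      (v2.s * p.k + v2.w0 * p.u0 + v2.w1 * p.u1 + v2.w2 * p.u2) } : Vec K) =
      ⟨0, u, f u, f (f u), 0, 0, 0, 0, 0⟩ := by
    rw [h2v, hp]
    simp only [tv, map_zero, map_div₀, he2, Vec.mk.injEq, true_and]
    field_simp
    linear_combination (2 * v2.e) * h20
  rw [hlast]
  exact scale_short C hf hq hK hu

theorem long_type {v : Vec K} (hv : raw v ∈ twistedD4 K q) (hne : raw v ≠ 1) (hk : v.k = 0)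
    (hu : v.u0 = 0) (hw : v.w0 = 0) : Rep K q (raw v) := by
  obtain ⟨hv', -, hs, he⟩ := coord_twisted C hf hq hK hv
  rw [hk, hu, hw] at hv'
  by_cases hs0 : v.s = 0
  · rw [hs0] at hv'
    have he0 : v.e ≠ 0 := fun h => hne (by
      rw [hv', h]; rw [← raw_zero C]; simp [tv, Vec.zero'])
    have : v = ⟨0, 0, 0, 0, 0, 0, 0, 0, v.e⟩ := hv'.trans (by simp [tv])
    rw [this]
    exact scale_long C hf hq hK he0 he
  · set p : Vec K := ⟨v.e / v.s, 0, 0, 0, 0, 0, 0, 0, 0⟩ with hp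
    have ep := conj_raw C p v
    refine Rep.of_conj (k_mem C hf (by rw [map_div₀, he, hs])) ep ?_
    have hlast : ({ v with e := v.e + (p.s * v.k + p.w0 * v.u0 + p.w1 * v.u1 + p.w2 * v.u2) +
        (v.s * p.k + v.w0 * p.u0 + v.w1 * p.u1 + v.w2 * p.u2) } : Vec K) =
        ⟨0, 0, 0, 0, 0, 0, 0, v.s, 0⟩ := by
      rw [hv', hp]
      simp only [tv, map_zero, Vec.mk.injEq, true_and]
      field_simp
      linear_combination v.e * (CharTwo.two_eq_zero : (2 : K) = 0)
    rw [hlast]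
    exact Rep.of_conj (nb_mem hf) (nb_s C v.s) (scale_long C hf hq hK hs0 hs)

theorem k_type {v : Vec K} (hv : raw v ∈ twistedD4 K q) (h2 : raw v * raw v = 1) (hk : v.k ≠ 0) :
    Rep K q (raw v) := by
  obtain ⟨hv', hfk, -, -⟩ := coord_twisted C hf hq hK hv
  have ec := conj_inv_aa C (v.u0 / v.k) (f (v.u0 / v.k)) (f (f (v.u0 / v.k))) v
  refine Rep.of_conj (tA_mem C hf (v.u0 / v.k)) ec ?_
  have hv1 := mul_mem (mul_mem (tA_mem C hf (v.u0 / v.k)) hv) (inv_mem (tA_mem C hf (v.u0 / v.k)))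
  rw [tA, ec] at hv1
  obtain ⟨h1v, hfk1, hs1, he1⟩ := coord_twisted C hf hq hK hv1
  set v1 := cA (v.u0 / v.k) (f (v.u0 / v.k)) (f (f (v.u0 / v.k))) v with hv1d
  have h20 : (2 : K) = 0 := CharTwo.two_eq_zero
  have hk1 : v1.k = v.k := by rw [hv1d]; simp [cA, c18, c13, c12]
  have hu1 : v1.u0 = 0 := by
    rw [hv1d]; simp only [cA, c18, c13, c12]
    field_simp
    linear_combination v.u0 * h20
  have h21 := sq_conj ec h2
  rw [hu1] at h1v
  have hcond := sq_cond C h21
  have hs0 : v1.s = 0 := by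
    have : v1.u1 = 0 ∧ v1.u2 = 0 := by rw [h1v]; simp [tv]
    rw [hu1, this.1, this.2] at hcond
    simp only [mul_zero, add_zero] at hcond
    exact (mul_eq_zero.1 hcond).resolve_right (by rw [hk1]; exact hk)
  rw [hs0] at h1v
  set p : Vec K := ⟨0, 0, 0, 0, 0, 0, 0, v1.e / v1.k, 0⟩ with hp
  have ep := conj_raw C p v1
  refine Rep.of_conj (s_mem C hf (by rw [map_div₀, he1, hfk1])) ep ?_
  have hlast : ({ v1 with e := v1.e + (p.s * v1.k + p.w0 * v1.u0 + p.w1 * v1.u1 + p.w2 * v1.u2) +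
      (v1.s * p.k + v1.w0 * p.u0 + v1.w1 * p.u1 + v1.w2 * p.u2) } : Vec K) =
      ⟨v1.k, 0, 0, 0, v1.w0, f v1.w0, f (f v1.w0), 0, 0⟩ := by
    rw [h1v, hp]
    have hk1' : v1.k ≠ 0 := by rw [hk1]; exact hk
    simp only [tv, map_zero, Vec.mk.injEq, true_and]
    field_simp
    linear_combination v1.e * h20
  have h22 := sq_conj ep h21
  have hv2 := mul_mem (mul_mem (s_mem C hf (s := v1.e / v1.k) (by rw [map_div₀, he1, hfk1])) hv1)
    (inv_mem (s_mem C hf (s := v1.e / v1.k) (by rw [map_div₀, he1, hfk1])))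
  rw [ep, hlast] at hv2
  rw [hlast] at h22 ⊢
  have en := na_raw C ⟨v1.k, 0, 0, 0, v1.w0, f v1.w0, f (f v1.w0), 0, 0⟩
  refine Rep.of_conj (na_mem hf) en ?_
  have hv3 := mul_mem (mul_mem (na_mem hf) hv2) (inv_mem (na_mem hf))
  rw [en] at hv3
  by_cases hw : v1.w0 = 0
  · refine long_type C hf hq hK hv3 (raw_ne C fun h => hk ?_) rfl hw rfl
    rw [← hk1]
    exact congrArg Vec.s h
  · exact short_type C hf hq hK hv3 (sq_conj en h22) rfl hw

theorem q_type {v : Vec K} (hv : raw v ∈ twistedD4 K q) (h2 : raw v * raw v = 1) (hne : raw v ≠ 1) :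
    Rep K q (raw v) := by
  by_cases hk : v.k = 0
  swap
  · exact k_type C hf hq hK hv h2 hk
  by_cases hu : v.u0 = 0
  swap
  · exact short_type C hf hq hK hv h2 hk hu
  by_cases hw : v.w0 = 0
  · exact long_type C hf hq hK hv hne hk hu hw
  have en := na_raw C v
  refine Rep.of_conj (na_mem hf) en ?_
  have hv1 := mul_mem (mul_mem (na_mem hf) hv) (inv_mem (na_mem hf))
  rw [en] at hv1
  by_cases hs : v.s = 0
  · exact short_type C hf hq hK hv1 (sq_conj en h2) hs hw
  · exact k_type C hf hq hK hv1 (sq_conj en h2) hs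

/-- Involutions of `U¹`. -/
theorem invol_pos {g : GL chevD4.Idx K} (hg : g ∈ chevD4.posUnipotent K) (hgt : g ∈ twistedD4 K q)
    (h2 : g * g = 1) (hne : g ≠ 1) : Rep K q g := by
  obtain ⟨t, k, u, w, s, e, hk, hs, he, rfl⟩ := exists_coord C hf hq hK hg hgt
  by_cases ht : t = 0
  · have e0 : tA f t = 1 := by simp [tA, ht, aa_zero C]
    rw [e0, one_mul] at h2 hne hgt ⊢
    exact q_type C hf hq hK hgt h2 hne
  have h20 : (2 : K) = 0 := CharTwo.two_eq_zero
  have ht1 : f t ≠ 0 := by simp [ht]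
  have ht2 : f (f t) ≠ 0 := by simp [ht]
  have hA : ∀ v, tA f t * raw v * tA f t = raw (cA t (f t) (f (f t)) v) := fun v => conj_aa C _ _ _ v
  have hAA : tA f t * tA f t = 1 := aa_self C _ _ _
  have hinv := h2
  rw [show tA f t * raw (tv f k u w s e) * (tA f t * raw (tv f k u w s e)) =
    (tA f t * raw (tv f k u w s e) * tA f t) * raw (tv f k u w s e) by group, hA, raw_mul C] at hinv
  have hz := raw_eq_one C hinv
  simp only [cA, c18, c13, c12, tv, Vec.add', Vec.zero', Vec.mk.injEq] at hz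
  obtain ⟨-, zu, -, -, zw, -, -, zs, -⟩ := hz
  have hk0 : k = 0 := by
    have : t * k = 0 := by linear_combination zu - u * h20
    exact (mul_eq_zero.1 this).resolve_left ht
  subst hk0
  simp only [mul_zero, add_zero] at zw zs
  have hz0 : f (f t) * f u + f t * f (f u) = 0 := by linear_combination zw - w * h20
  have hz1 := congrArg f hz0
  simp only [map_add, map_mul, map_zero, hf.three] at hz1
  have hz2 := congrArg f hz1
  simp only [map_add, map_mul, map_zero, hf.three] at hz2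
  have hc : f (u / t) = u / t := by
    rw [map_div₀, div_eq_div_iff ht1 ht]
    linear_combination hz2 - (u * f t) * h20
  have hut : u / t * t = u := div_mul_cancel₀ u ht
  set c := u / t with hcdef
  -- conjugate by the long root element
  have step : ∀ p v : Vec K, raw p * (tA f t * raw v) * (raw p)⁻¹ =
      tA f t * raw ((cA t (f t) (f (f t)) p).add' (v.add'
        { p with e := p.e + (p.s * p.k + p.w0 * p.u0 + p.w1 * p.u1 + p.w2 * p.u2) })) := by
    intro p v
    rw [← raw_mul C, ← hA, ← raw_mul C, ← raw_inv C,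
      show tA f t * (tA f t * raw p * tA f t * (raw v * (raw p)⁻¹)) =
        (tA f t * tA f t) * raw p * (tA f t * raw v) * (raw p)⁻¹ by group, hAA, one_mul]
  have e1 := step ⟨c, 0, 0, 0, 0, 0, 0, 0, 0⟩ (tv f 0 u w s e)
  refine Rep.of_conj (k_mem C hf hc) e1 ?_
  have hm1 := mul_mem (mul_mem (k_mem C hf hc) hgt) (inv_mem (k_mem C hf hc))
  rw [e1] at hm1
  have h21 := sq_conj e1 h2
  set v1 := (cA t (f t) (f (f t)) ⟨c, 0, 0, 0, 0, 0, 0, 0, 0⟩).add' ((tv f 0 u w s e).add'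
    ({ (⟨c, 0, 0, 0, 0, 0, 0, 0, 0⟩ : Vec K) with e := (0 : K) + (0 * c + 0 * 0 + 0 * 0 + 0 * 0) })) with hv1d
  have hm1r : raw v1 ∈ twistedD4 K q := by
    have := mul_mem (inv_mem (tA_mem C hf t)) hm1
    rwa [inv_mul_cancel_left] at this
  obtain ⟨h1v, -, -, -⟩ := coord_twisted C hf hq hK hm1r
  have hk1 : v1.k = 0 := by
    rw [hv1d]; simp only [cA, c18, c13, c12, tv, Vec.add']
    linear_combination c * h20
  have hu1 : v1.u0 = 0 := by
    rw [hv1d]; simp only [cA, c18, c13, c12, tv, Vec.add']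
    linear_combination hut + u * h20
  rw [hk1, hu1] at h1v
  -- the condition on `w`
  have hinv1 := h21
  rw [show tA f t * raw v1 * (tA f t * raw v1) = (tA f t * raw v1 * tA f t) * raw v1 by group, hA,
    raw_mul C] at hinv1
  have hz' := congrArg Vec.s (raw_eq_one C hinv1)
  rw [h1v] at hz'
  simp only [cA, c18, c13, c12, tv, Vec.add', Vec.zero', mul_zero, add_zero, map_zero] at hz'
  set w1 := v1.w0
  set s1 := v1.s
  have htr : t * w1 + f t * f w1 + f (f t) * f (f w1) = 0 := by linear_combination hz' - s1 * h20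
  -- kill `w`
  set N := t * f t * f (f t) with hN
  have hfN : f N = N := by rw [hN, map_mul, map_mul, hf.three]; ring
  have hN0 : N ≠ 0 := by rw [hN]; exact mul_ne_zero (mul_ne_zero ht ht1) ht2
  have e2 := step (tv f 0 (t * t * w1 / N) 0 0 0) v1
  refine Rep.of_conj (tv_mem C hf _ _ (map_zero f) (map_zero f) (map_zero f)) e2 ?_
  have hm2 := mul_mem (mul_mem (tv_mem C hf (k := (0 : K)) (s := 0) (e := 0) (t * t * w1 / N) 0
    (map_zero f) (map_zero f) (map_zero f)) hm1)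
    (inv_mem (tv_mem C hf (k := (0 : K)) (s := 0) (e := 0) (t * t * w1 / N) 0 (map_zero f) (map_zero f) (map_zero f)))
  rw [e2] at hm2
  have h22 := sq_conj e2 h21
  set v2 := (cA t (f t) (f (f t)) (tv f 0 (t * t * w1 / N) 0 0 0)).add' (v1.add'
    { tv f 0 (t * t * w1 / N) 0 0 0 with e := (tv f 0 (t * t * w1 / N) 0 0 0).e +
      ((tv f 0 (t * t * w1 / N) 0 0 0).s * (tv f 0 (t * t * w1 / N) 0 0 0).k +
      (tv f 0 (t * t * w1 / N) 0 0 0).w0 * (tv f 0 (t * t * w1 / N) 0 0 0).u0 +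
      (tv f 0 (t * t * w1 / N) 0 0 0).w1 * (tv f 0 (t * t * w1 / N) 0 0 0).u1 +
      (tv f 0 (t * t * w1 / N) 0 0 0).w2 * (tv f 0 (t * t * w1 / N) 0 0 0).u2) }) with hv2d
  have hm2r : raw v2 ∈ twistedD4 K q := by
    have := mul_mem (inv_mem (tA_mem C hf t)) hm2
    rwa [inv_mul_cancel_left] at this
  obtain ⟨h2v, -, hs2, -⟩ := coord_twisted C hf hq hK hm2r
  have hk2 : v2.k = 0 := by
    rw [hv2d, h1v]; simp [cA, c18, c13, c12, tv, Vec.add']
  have hu2 : v2.u0 = 0 := by
    rw [hv2d, h1v]; simp only [cA, c18, c13, c12, tv, Vec.add', map_zero]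
    linear_combination (t * t * w1 / N) * h20
  have hw2 : v2.w0 = 0 := by
    rw [hv2d, h1v]
    simp only [cA, c18, c13, c12, tv, Vec.add', map_zero, mul_zero, add_zero, zero_add, map_div₀,
      map_mul, hfN]
    field_simp
    linear_combination (f t * f (f t)) * htr + w1 * hN
  rw [hk2, hu2, hw2] at h2v
  -- kill `s`
  have e3 := step (tv f 0 0 (v2.s / t) 0 0) v2
  refine Rep.of_conj (tv_mem C hf _ _ (map_zero f) (map_zero f) (map_zero f)) e3 ?_
  have hm3 := mul_mem (mul_mem (tv_mem C hf (k := (0 : K)) (s := 0) (e := 0) 0 (v2.s / t)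
    (map_zero f) (map_zero f) (map_zero f)) hm2)
    (inv_mem (tv_mem C hf (k := (0 : K)) (s := 0) (e := 0) 0 (v2.s / t) (map_zero f) (map_zero f) (map_zero f)))
  rw [e3] at hm3
  have h23 := sq_conj e3 h22
  set v3 := (cA t (f t) (f (f t)) (tv f 0 0 (v2.s / t) 0 0)).add' (v2.add'
    { tv f 0 0 (v2.s / t) 0 0 with e := (tv f 0 0 (v2.s / t) 0 0).e +
      ((tv f 0 0 (v2.s / t) 0 0).s * (tv f 0 0 (v2.s / t) 0 0).k +
      (tv f 0 0 (v2.s / t) 0 0).w0 * (tv f 0 0 (v2.s / t) 0 0).u0 +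
      (tv f 0 0 (v2.s / t) 0 0).w1 * (tv f 0 0 (v2.s / t) 0 0).u1 +
      (tv f 0 0 (v2.s / t) 0 0).w2 * (tv f 0 0 (v2.s / t) 0 0).u2) }) with hv3d
  have hv3 : v3 = ⟨0, 0, 0, 0, 0, 0, 0, 0, v3.e⟩ := by
    rw [hv3d, h2v]
    simp only [cA, c18, c13, c12, tv, Vec.add', map_zero, mul_zero, add_zero, zero_add, map_div₀, hs2,
      Vec.mk.injEq, and_true, true_and]
    refine ⟨?_, ?_, ?_, ?_⟩
    · linear_combination (v2.s / t) * h20
    · linear_combination (v2.s / f t) * h20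
    · linear_combination (v2.s / f (f t)) * h20
    · field_simp
      linear_combination (2 * v2.s) * h20
  rw [hv3] at hm3 h23 ⊢
  have e4 := nb_aa C t (f t) (f (f t)) v3.e
  refine Rep.of_conj (nb_mem hf) e4 ?_
  have hm4 := mul_mem (mul_mem (nb_mem hf) hm3) (inv_mem (nb_mem hf))
  rw [show tA f t = aa t (f t) (f (f t)) from rfl, e4] at hm4
  exact short_type C hf hq hK hm4 (sq_conj e4 h23) rfl ht

end H35.D4Invol
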