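import Cfsg.Agent.H35.D4Invol.Basic
import Cfsg.Agent.H53.TwistChar2

/-!
Conjugation of coordinates by simple root elements, injectivity, Weyl elements, torus.
-/

set_option autoImplicit false
set_option linter.unusedSectionVars false

open Cfsg.Lie
open scoped MatrixGroups

namespace H35.D4Invol

open H54

variable {K : Type*} [Field K]

/-- Effect of conjugation by `x₁₈(c)`. -/
def c18 (c : K) (v : Vec K) : Vec K :=
  { v with u0 := v.u0 + c * v.k, w2 := v.w2 + c * v.u1, w1 := v.w1 + c * v.u2,
           s := v.s + c * v.w0, e := v.e + c * v.u1 * v.u2 }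

/-- Effect of conjugation by `x₁₃(c)`. -/
def c13 (c : K) (v : Vec K) : Vec K :=
  { v with u1 := v.u1 + c * v.k, w2 := v.w2 + c * v.u0, w0 := v.w0 + c * v.u2,
           s := v.s + c * v.w1, e := v.e + c * v.u0 * v.u2 }

/-- Effect of conjugation by `x₁₂(c)`. -/
def c12 (c : K) (v : Vec K) : Vec K :=
  { v with u2 := v.u2 + c * v.k, w1 := v.w1 + c * v.u0, w0 := v.w0 + c * v.u1,
           s := v.s + c * v.w2, e := v.e + c * v.u0 * v.u1 }

/-- The element `x₁₈(a) x₁₃(b) x₁₂(c)`. -/
noncomputable def aa (a b c : K) : GL chevD4.Idx K :=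
  H52.rt chevD4 18 a * H52.rt chevD4 13 b * H52.rt chevD4 12 c

/-- Effect of conjugation by `aa`. -/
def cA (a b c : K) (v : Vec K) : Vec K := c18 a (c13 b (c12 c v))

variable (C : Ctx chevD4) [CharP K 2]

local notation "x" => H52.rt chevD4

include C

theorem conj_prod9 (h a b c d e f g i j : GL chevD4.Idx K) (hh : h * h = 1) :
    h * (a * b * c * d * e * f * g * i * j) * h =
      (h * a * h) * (h * b * h) * (h * c * h) * (h * d * h) * (h * e * h) * (h * f * h) * (h * g * h) *
        (h * i * h) * (h * j * h) := by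
  have hz : ∀ z, h * (h * z) = z := fun z => by rw [← mul_assoc, hh, one_mul]
  simp only [mul_assoc, hz]

theorem x_fix {r s : ℕ} (hr : r < 24) (hs : s < 24) (h : evenComm chevD4 r s = true) (a b : K) :
    x r a * x s b * x r a = x s b := by
  rw [x_comm C hr hs h, mul_assoc, x_self C, mul_one]

theorem conj18 (c : K) (v : Vec K) : x 18 c * raw v * x 18 c = raw (c18 c v) := by
  rw [raw, conj_prod9 C _ _ _ _ _ _ _ _ _ _ (x_self C 18 c),
    x_conj C (r := 18) (s := 14) (k := 19) (by decide +kernel),
    x_fix C (r := 18) (s := 19) (by norm_num) (by norm_num) (by decide +kernel),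
    x_conj C (r := 18) (s := 16) (k := 21) (by decide +kernel),
    x_conj C (r := 18) (s := 15) (k := 20) (by decide +kernel),
    x_conj C (r := 18) (s := 17) (k := 22) (by decide +kernel),
    x_fix C (r := 18) (s := 20) (by norm_num) (by norm_num) (by decide +kernel),
    x_fix C (r := 18) (s := 21) (by norm_num) (by norm_num) (by decide +kernel),
    x_fix C (r := 18) (s := 22) (by norm_num) (by norm_num) (by decide +kernel),
    x_fix C (r := 18) (s := 23) (by norm_num) (by norm_num) (by decide +kernel)]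
  rw [← one_mul (x 14 v.k * x 19 (c * v.k) * x 19 v.u0 * (x 16 v.u1 * x 21 (c * v.u1)) *
    (x 15 v.u2 * x 20 (c * v.u2)) * (x 17 v.w0 * x 22 (c * v.w0)) * x 20 v.w1 * x 21 v.w2 *
    x 22 v.s * x 23 v.e), ← raw_zero C]
  simp only [← mul_assoc, raw_mul_k C, raw_mul_u0 C, raw_mul_u1 C, raw_mul_u2 C, raw_mul_w0 C,
    raw_mul_w1 C, raw_mul_w2 C, raw_mul_s C, raw_mul_e C]
  congr 1
  ext <;> simp [c18, Vec.zero'] <;> ring

theorem conj13 (c : K) (v : Vec K) : x 13 c * raw v * x 13 c = raw (c13 c v) := by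
  rw [raw, conj_prod9 C _ _ _ _ _ _ _ _ _ _ (x_self C 13 c),
    x_conj C (r := 13) (s := 14) (k := 16) (by decide +kernel),
    x_conj C (r := 13) (s := 19) (k := 21) (by decide +kernel),
    x_fix C (r := 13) (s := 16) (by norm_num) (by norm_num) (by decide +kernel),
    x_conj C (r := 13) (s := 15) (k := 17) (by decide +kernel),
    x_fix C (r := 13) (s := 17) (by norm_num) (by norm_num) (by decide +kernel),
    x_conj C (r := 13) (s := 20) (k := 22) (by decide +kernel),
    x_fix C (r := 13) (s := 21) (by norm_num) (by norm_num) (by decide +kernel),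
    x_fix C (r := 13) (s := 22) (by norm_num) (by norm_num) (by decide +kernel),
    x_fix C (r := 13) (s := 23) (by norm_num) (by norm_num) (by decide +kernel)]
  rw [← one_mul (x 14 v.k * x 16 (c * v.k) * (x 19 v.u0 * x 21 (c * v.u0)) * x 16 v.u1 *
    (x 15 v.u2 * x 17 (c * v.u2)) * x 17 v.w0 * (x 20 v.w1 * x 22 (c * v.w1)) * x 21 v.w2 *
    x 22 v.s * x 23 v.e), ← raw_zero C]
  simp only [← mul_assoc, raw_mul_k C, raw_mul_u0 C, raw_mul_u1 C, raw_mul_u2 C, raw_mul_w0 C,
    raw_mul_w1 C, raw_mul_w2 C, raw_mul_s C, raw_mul_e C]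
  congr 1
  ext <;> simp [c13, Vec.zero'] <;> ring

theorem conj12 (c : K) (v : Vec K) : x 12 c * raw v * x 12 c = raw (c12 c v) := by
  rw [raw, conj_prod9 C _ _ _ _ _ _ _ _ _ _ (x_self C 12 c),
    x_conj C (r := 12) (s := 14) (k := 15) (by decide +kernel),
    x_conj C (r := 12) (s := 19) (k := 20) (by decide +kernel),
    x_conj C (r := 12) (s := 16) (k := 17) (by decide +kernel),
    x_fix C (r := 12) (s := 15) (by norm_num) (by norm_num) (by decide +kernel),
    x_fix C (r := 12) (s := 17) (by norm_num) (by norm_num) (by decide +kernel),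
    x_fix C (r := 12) (s := 20) (by norm_num) (by norm_num) (by decide +kernel),
    x_conj C (r := 12) (s := 21) (k := 22) (by decide +kernel),
    x_fix C (r := 12) (s := 22) (by norm_num) (by norm_num) (by decide +kernel),
    x_fix C (r := 12) (s := 23) (by norm_num) (by norm_num) (by decide +kernel)]
  rw [← one_mul (x 14 v.k * x 15 (c * v.k) * (x 19 v.u0 * x 20 (c * v.u0)) *
    (x 16 v.u1 * x 17 (c * v.u1)) * x 15 v.u2 * x 17 v.w0 * x 20 v.w1 *
    (x 21 v.w2 * x 22 (c * v.w2)) * x 22 v.s * x 23 v.e), ← raw_zero C]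
  simp only [← mul_assoc, raw_mul_k C, raw_mul_u0 C, raw_mul_u1 C, raw_mul_u2 C, raw_mul_w0 C,
    raw_mul_w1 C, raw_mul_w2 C, raw_mul_s C, raw_mul_e C]
  congr 1
  ext <;> simp [c12, Vec.zero'] <;> ring

theorem aa_mul (a b c a' b' c' : K) : aa a b c * aa a' b' c' = aa (a + a') (b + b') (c + c') := by
  simp only [aa, mul_assoc]
  rw [x_comm_mul C (r := 12) (s := 18) (by norm_num) (by norm_num) (by decide +kernel),
    x_comm_mul C (r := 13) (s := 18) (by norm_num) (by norm_num) (by decide +kernel),
    x_comm_mul C (r := 12) (s := 13) (by norm_num) (by norm_num) (by decide +kernel),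
    ← mul_assoc (x 18 a), x_mul C, ← mul_assoc (x 13 b), x_mul C, x_mul C]

theorem aa_zero : aa (0 : K) 0 0 = 1 := by simp [aa, x_zero C]

theorem aa_self (a b c : K) : aa a b c * aa a b c = 1 := by
  simp [aa_mul C, CharTwo.add_self_eq_zero, aa_zero C]

theorem conj_aa (a b c : K) (v : Vec K) : aa a b c * raw v * aa a b c = raw (cA a b c v) := by
  have e : aa a b c = x 12 c * x 13 b * x 18 a := by
    simp only [aa, mul_assoc]
    rw [x_comm C (r := 13) (s := 12) (by norm_num) (by norm_num) (by decide +kernel),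
      x_comm_mul C (r := 18) (s := 12) (by norm_num) (by norm_num) (by decide +kernel),
      x_comm C (r := 18) (s := 13) (by norm_num) (by norm_num) (by decide +kernel)]
  nth_rw 2 [e]
  rw [cA, ← conj18 C, ← conj13 C, ← conj12 C, aa]
  group

theorem raw_inv (v : Vec K) : (raw v)⁻¹ = raw { v with e := v.e + (v.s * v.k + v.w0 * v.u0 +
    v.w1 * v.u1 + v.w2 * v.u2) } := by
  rw [inv_eq_iff_mul_eq_one, raw_mul C, ← raw_zero C]
  congr 1
  ext <;> simp only [Vec.add', Vec.zero'] <;> try exact CharTwo.add_self_eq_zero _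
  have h20 : (2 : K) = 0 := CharTwo.two_eq_zero
  linear_combination (v.e + v.s * v.k + v.w0 * v.u0 + v.w1 * v.u1 + v.w2 * v.u2) * h20

omit C in
theorem up_mem {m r : ℕ} (h : m ≤ r) (hr : r < 24) (a : K) :
    x r a ∈ H52.upper chevD4 K m := H52.Checked.rt_mem_upper h hr a

theorem upper_succ_zero {r : ℕ} (h : 12 ≤ r) (hr : r < 24) {a : K}
    (ha : x r a ∈ H52.upper chevD4 K (r + 1)) : a = 0 :=
  C.hC.rt_mem_upper_succ (k := r) h hr ha

/-- The coordinates are unique. -/
theorem coord_eq_zero {a b c : K} {v : Vec K} (h : aa a b c * raw v = 1) :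
    a = 0 ∧ b = 0 ∧ c = 0 ∧ v = Vec.zero' := by
  have e : aa a b c = x 12 c * x 13 b * x 18 a := by
    simp only [aa, mul_assoc]
    rw [x_comm C (r := 13) (s := 12) (by norm_num) (by norm_num) (by decide +kernel),
      x_comm_mul C (r := 18) (s := 12) (by norm_num) (by norm_num) (by decide +kernel),
      x_comm C (r := 18) (s := 13) (by norm_num) (by norm_num) (by decide +kernel)]
  rw [e] at h
  obtain ⟨k, u0, u1, u2, w0, w1, w2, s, e'⟩ := v
  simp only [raw] at h
  set U := fun m => H52.upper chevD4 K m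
  have key : ∀ {P g R : GL chevD4.Idx K} {m : ℕ}, P ∈ U m → R ∈ U m → P * g * R = 1 → g ∈ U m := by
    intro P g R m hP hR hh
    have : g = P⁻¹ * R⁻¹ := by
      rw [eq_inv_mul_iff_mul_eq, eq_inv_iff_mul_eq_one]; exact hh
    rw [this]; exact mul_mem (inv_mem hP) (inv_mem hR)
  have hc : c = 0 := by
    refine upper_succ_zero C (r := 12) (by norm_num) (by norm_num) (key (P := 1) (R := x 13 b * x 18 a *
      (x 14 k * x 19 u0 * x 16 u1 * x 15 u2 * x 17 w0 * x 20 w1 * x 21 w2 * x 22 s * x 23 e')) (one_mem _) ?_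
      (by simpa [mul_assoc] using h))
    repeat' apply mul_mem
    all_goals exact up_mem (by norm_num) (by norm_num) _
  subst hc
  rw [x_zero C, one_mul] at h
  have hb : b = 0 := by
    refine upper_succ_zero C (r := 13) (by norm_num) (by norm_num) (key (P := 1) (R := x 18 a *
      (x 14 k * x 19 u0 * x 16 u1 * x 15 u2 * x 17 w0 * x 20 w1 * x 21 w2 * x 22 s * x 23 e')) (one_mem _) ?_
      (by simpa [mul_assoc] using h))
    repeat' apply mul_mem
    all_goals exact up_mem (by norm_num) (by norm_num) _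
  subst hb
  rw [x_zero C, one_mul] at h
  have hk : k = 0 := by
    refine upper_succ_zero C (r := 14) (by norm_num) (by norm_num) (key (P := x 18 a) (R :=
      x 19 u0 * x 16 u1 * x 15 u2 * x 17 w0 * x 20 w1 * x 21 w2 * x 22 s * x 23 e') ?_ ?_
      (by simpa [mul_assoc] using h))
    all_goals repeat' apply mul_mem
    all_goals exact up_mem (by norm_num) (by norm_num) _
  subst hk
  rw [x_zero C, one_mul] at h
  have hu2 : u2 = 0 := by
    refine upper_succ_zero C (r := 15) (by norm_num) (by norm_num) (key (P := x 18 a * x 19 u0 * x 16 u1)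
      (R := x 17 w0 * x 20 w1 * x 21 w2 * x 22 s * x 23 e') ?_ ?_ (by simpa [mul_assoc] using h))
    all_goals repeat' apply mul_mem
    all_goals exact up_mem (by norm_num) (by norm_num) _
  subst hu2
  rw [x_zero C, mul_one] at h
  have hu1 : u1 = 0 := by
    refine upper_succ_zero C (r := 16) (by norm_num) (by norm_num) (key (P := x 18 a * x 19 u0)
      (R := x 17 w0 * x 20 w1 * x 21 w2 * x 22 s * x 23 e') ?_ ?_ (by simpa [mul_assoc] using h))
    all_goals repeat' apply mul_mem
    all_goals exact up_mem (by norm_num) (by norm_num) _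
  subst hu1
  rw [x_zero C, mul_one] at h
  have hw0 : w0 = 0 := by
    refine upper_succ_zero C (r := 17) (by norm_num) (by norm_num) (key (P := x 18 a * x 19 u0)
      (R := x 20 w1 * x 21 w2 * x 22 s * x 23 e') ?_ ?_ (by simpa [mul_assoc] using h))
    all_goals repeat' apply mul_mem
    all_goals exact up_mem (by norm_num) (by norm_num) _
  subst hw0
  rw [x_zero C, mul_one] at h
  have ha : a = 0 := by
    refine upper_succ_zero C (r := 18) (by norm_num) (by norm_num) (key (P := 1)
      (R := x 19 u0 * x 20 w1 * x 21 w2 * x 22 s * x 23 e') (one_mem _) ?_ (by simpa [mul_assoc] using h))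
    all_goals repeat' apply mul_mem
    all_goals exact up_mem (by norm_num) (by norm_num) _
  subst ha
  rw [x_zero C, one_mul] at h
  have hu0 : u0 = 0 := by
    refine upper_succ_zero C (r := 19) (by norm_num) (by norm_num) (key (P := 1)
      (R := x 20 w1 * x 21 w2 * x 22 s * x 23 e') (one_mem _) ?_ (by simpa [mul_assoc] using h))
    all_goals repeat' apply mul_mem
    all_goals exact up_mem (by norm_num) (by norm_num) _
  subst hu0
  rw [x_zero C, one_mul] at h
  have hw1 : w1 = 0 := by
    refine upper_succ_zero C (r := 20) (by norm_num) (by norm_num) (key (P := 1)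
      (R := x 21 w2 * x 22 s * x 23 e') (one_mem _) ?_ (by simpa [mul_assoc] using h))
    all_goals repeat' apply mul_mem
    all_goals exact up_mem (by norm_num) (by norm_num) _
  subst hw1
  rw [x_zero C, one_mul] at h
  have hw2 : w2 = 0 := by
    refine upper_succ_zero C (r := 21) (by norm_num) (by norm_num) (key (P := 1)
      (R := x 22 s * x 23 e') (one_mem _) ?_ (by simpa [mul_assoc] using h))
    all_goals repeat' apply mul_mem
    all_goals exact up_mem (by norm_num) (by norm_num) _
  subst hw2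
  rw [x_zero C, one_mul] at h
  have hs : s = 0 := by
    refine upper_succ_zero C (r := 22) (by norm_num) (by norm_num) (key (P := 1)
      (R := x 23 e') (one_mem _) (up_mem (by norm_num) (by norm_num) _) (by simpa [mul_assoc] using h))
  subst hs
  rw [x_zero C, one_mul] at h
  refine ⟨rfl, rfl, rfl, ?_⟩
  have he : e' = 0 := C.hC.rt_injective (r := 23) (by decide) (h.trans (x_zero C 23).symm)
  subst he
  rfl

/-- The coordinates are unique. -/
theorem coord_inj {a b c a' b' c' : K} {v w : Vec K} (h : aa a b c * raw v = aa a' b' c' * raw w) :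
    a = a' ∧ b = b' ∧ c = c' ∧ v = w := by
  have h1 : aa (a' + a) (b' + b) (c' + c) * (raw v * (raw w)⁻¹) = 1 := by
    rw [← aa_mul C, mul_assoc, ← mul_assoc (aa a b c), h, mul_inv_cancel_right, aa_self C]
  rw [raw_inv C, raw_mul C] at h1
  obtain ⟨ha, hb, hc, hv⟩ := coord_eq_zero C h1
  have hadd : ∀ {p q : K}, p + q = 0 → q = p := fun h => (CharTwo.add_eq_zero.1 h).symm
  refine ⟨hadd ha, hadd hb, hadd hc, ?_⟩
  simp only [Vec.add', Vec.zero', Vec.mk.injEq] at hv
  obtain ⟨h14, h19, h16, h15, h17, h20, h21, h22, h23⟩ := hv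
  have e1 := (hadd h14).symm
  have e2 := (hadd h19).symm
  have e3 := (hadd h16).symm
  have e4 := (hadd h15).symm
  have e5 := (hadd h17).symm
  have e6 := (hadd h20).symm
  have e7 := (hadd h21).symm
  have e8 := (hadd h22).symm
  refine Vec.ext e1 e2 e3 e4 e5 e6 e7 e8 ?_
  have h20' : (2 : K) = 0 := CharTwo.two_eq_zero
  rw [e5, e6, e7, e8] at h23
  linear_combination h23 - (w.e + w.s * w.k + w.w0 * w.u0 + w.w1 * w.u1 + w.w2 * w.u2) * h20'

end H35.D4Invol
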