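import Cfsg.Agent.H35.D4Invol.Classify
import Cfsg.Agent.H54.ChevParabolic
import Cfsg.Agent.H52.TwistOrderD4

/-!
³D₄(q), `q` even, has exactly two classes of involutions.
-/

set_option autoImplicit false
set_option linter.unusedSectionVars false

open Cfsg.Lie
open scoped MatrixGroups

namespace H35.D4Invol

open H54

variable {K : Type*} [Field K]

section
variable (C : Ctx chevD4) [CharP K 2]
include C

local notation "x" => H52.rt chevD4

/-- Coordinates with `k = 0` and all `B`-coordinates 1. -/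
def ShortSet (g : GL chevD4.Idx K) : Prop :=
  ∃ v : Vec K, v.k = 0 ∧ v.u0 = 1 ∧ v.u1 = 1 ∧ v.u2 = 1 ∧ g = raw v

theorem shortSet_conj {u g : GL chevD4.Idx K} (hu : u ∈ chevD4.posUnipotent K) (hg : ShortSet g) :
    ShortSet (u * g * u⁻¹) := by
  rw [C.hC.posUnipotent_eq, show chevD4.nroots / 2 = 12 from rfl] at hu
  have gen : ∀ r (t : K), 12 ≤ r → r < 24 → ∀ g, ShortSet g → ShortSet (x r t * g * (x r t)⁻¹) := by
    intro r t h1 h2 g hg
    obtain ⟨v, a, b, c, d, rfl⟩ := hg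
    rw [x_inv C]
    by_cases h18 : r = 18
    · subst h18
      exact ⟨_, by simpa [c18] using a, by simp [c18, a, b], by simp [c18, c], by simp [c18, d], conj18 C t v⟩
    by_cases h13 : r = 13
    · subst h13
      exact ⟨_, by simpa [c13] using a, by simp [c13, b], by simp [c13, a, c], by simp [c13, d], conj13 C t v⟩
    by_cases h12 : r = 12
    · subst h12
      exact ⟨_, by simpa [c12] using a, by simp [c12, b], by simp [c12, c], by simp [c12, a, d], conj12 C t v⟩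
    have key : ∀ p : Vec K, raw p = x r t → ShortSet (x r t * raw v * x r t) := by
      intro p hp
      have := conj_raw C p v
      rw [hp, x_inv C] at this
      rw [this]
      refine ⟨{ v with e := v.e + (p.s * v.k + p.w0 * v.u0 + p.w1 * v.u1 + p.w2 * v.u2) +
        (v.s * p.k + v.w0 * p.u0 + v.w1 * p.u1 + v.w2 * p.u2) }, a, b, c, d, rfl⟩
    obtain rfl | rfl | rfl | rfl | rfl | rfl | rfl | rfl | rfl : r = 14 ∨ r = 15 ∨ r = 16 ∨ r = 17 ∨ r = 19 ∨
        r = 20 ∨ r = 21 ∨ r = 22 ∨ r = 23 := by omega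
    · exact key ⟨t, 0, 0, 0, 0, 0, 0, 0, 0⟩ (by simp [raw, x_zero C])
    · exact key ⟨0, 0, 0, t, 0, 0, 0, 0, 0⟩ (by simp [raw, x_zero C])
    · exact key ⟨0, 0, t, 0, 0, 0, 0, 0, 0⟩ (by simp [raw, x_zero C])
    · exact key ⟨0, 0, 0, 0, t, 0, 0, 0, 0⟩ (by simp [raw, x_zero C])
    · exact key ⟨0, t, 0, 0, 0, 0, 0, 0, 0⟩ (by simp [raw, x_zero C])
    · exact key ⟨0, 0, 0, 0, 0, t, 0, 0, 0⟩ (by simp [raw, x_zero C])
    · exact key ⟨0, 0, 0, 0, 0, 0, t, 0, 0⟩ (by simp [raw, x_zero C])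
    · exact key ⟨0, 0, 0, 0, 0, 0, 0, t, 0⟩ (by simp [raw, x_zero C])
    · exact key ⟨0, 0, 0, 0, 0, 0, 0, 0, t⟩ (by simp [raw, x_zero C])
  induction hu using Subgroup.closure_induction_left with
  | one => simpa using hg
  | mul_left a ha y _ ih =>
    obtain ⟨r, t, h1, h2, rfl⟩ := ha
    have := gen r t h1 h2 _ ih
    simpa [mul_assoc] using this
  | inv_mul_cancel a ha y _ ih =>
    obtain ⟨r, t, h1, h2, rfl⟩ := ha
    have := gen r t h1 h2 _ ih
    rw [x_inv C] at this ⊢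
    simpa [mul_assoc, x_inv C] using this

theorem pos_comm_high {v : GL chevD4.Idx K} (hv : v ∈ chevD4.posUnipotent K) :
    v * x 23 (1 : K) = x 23 (1 : K) * v := by
  rw [C.hC.posUnipotent_eq, show chevD4.nroots / 2 = 12 from rfl] at hv
  have hle : H52.upper chevD4 K 12 ≤ Subgroup.centralizer {x 23 (1 : K)} := by
    refine (Subgroup.closure_le _).2 ?_
    rintro _ ⟨r, s, h1, h2, rfl⟩
    rw [SetLike.mem_coe, Subgroup.mem_centralizer_iff]
    rintro _ rfl
    refine x_comm C (r := 23) (s := r) (by norm_num) (show r < 24 from h2) ?_ 1 s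
    have h24 : r < 24 := h2
    interval_cases r <;> decide +kernel
  exact ((Subgroup.mem_centralizer_iff.1 (hle hv)) _ rfl).symm

theorem not_conj_reps {h : GL chevD4.Idx K} (hh : h ∈ chevD4.group K) : h * repE K * h⁻¹ ≠ repB K := by
  intro he
  obtain ⟨u, hu, t, ht, L, v, hv, rfl⟩ := C.exists_nf hh
  have hE : repE K = x 23 (1 : K) := by simp [repE, raw, x_zero C]
  rw [hE] at he
  have hvU := C.uinv_le _ hv
  have hv23 : v * x 23 (1 : K) * v⁻¹ = x 23 (1 : K) := by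
    rw [mul_inv_eq_iff_eq_mul]
    exact pos_comm_high C hvU
  obtain ⟨c, rfl⟩ : ∃ c, H52.torus chevD4 c = t := by
    rw [C.hC.diagonalSubgroup_eq] at ht; exact ht
  obtain ⟨e, he', hn⟩ := C.nw_conj_rt (F := K) L ⟨23, by decide⟩ 1
  set k := C.wperm L ⟨23, by decide⟩ with hk
  set e' : K := ((∏ i : Fin chevD4.rank, c i ^ chevD4.cartan i.val k.val : Kˣ) : K) * ((e : K) * 1)
  have he0 : e' ≠ 0 := by
    refine mul_ne_zero (Units.ne_zero _) ?_
    rcases he' with rfl | rfl <;> simp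
  have hmain : x k.val e' = u⁻¹ * repB K * u := by
    have h1 : u⁻¹ * repB K * u = H52.torus chevD4 c *
        (Ctx.nw chevD4 K L * (v * x 23 (1 : K) * v⁻¹) * (Ctx.nw chevD4 K L)⁻¹) *
        (H52.torus chevD4 c)⁻¹ := by
      rw [← he]; group
    rw [h1, hv23, hn]
    exact (C.hC.torus_conj_rt c k.isLt _).symm
  obtain ⟨w, a0, b0, b1, b2, hw⟩ : ShortSet (x k.val e') := by
    rw [hmain]
    have := shortSet_conj C (inv_mem hu) (g := repB K) ⟨_, rfl, rfl, rfl, rfl, rfl⟩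
    rwa [inv_inv] at this
  have hk24 : k.val < 24 := k.isLt
  rcases lt_or_ge k.val 12 with hneg | hpos
  · have hmem : x k.val e' ∈ chevD4.borelSubgroup K ⊓ chevD4.negUnipotent K :=
      ⟨(le_sup_left : _ ≤ chevD4.borelSubgroup K) (by
        rw [hw]; simp only [raw]
        repeat' apply mul_mem
        all_goals exact C.hC.rt_mem_pos (by decide) (by decide) _),
        C.hC.rt_mem_neg (by rw [show chevD4.nroots / 2 = 12 from rfl]; exact hneg) _⟩
    rw [C.hC.borel_inf_neg, Subgroup.mem_bot, ← C.hC.rt_zero (F := K) k.val] at hmem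
    exact he0 (C.hC.rt_injective k.isLt hmem)
  · have h01 : (1 : K) ≠ 0 := one_ne_zero
    have hw' : aa (0 : K) 0 0 * raw w = x k.val e' := by rw [aa_zero C, one_mul, hw]
    have single : ∀ p : Vec K, raw p = x k.val e' → p.u0 = 1 ∧ p.u1 = 1 := by
      intro p hp
      obtain ⟨-, -, -, rfl⟩ := coord_inj C (a := (0 : K)) (b := 0) (c := 0) (a' := 0) (b' := 0) (c' := 0)
        (v := p) (w := w) (by rw [hp, hw', aa_zero C, one_mul])
      exact ⟨b0, b1⟩
    have outside : ∀ a b c : K, aa a b c * raw Vec.zero' = x k.val e' → False := by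
      intro a b c hp
      obtain ⟨-, -, -, hz⟩ := coord_inj C (hp.trans hw'.symm)
      rw [← hz] at b0
      exact h01 (Eq.symm b0)
    obtain h | h | h | h | h | h | h | h | h | h | h | h : k.val = 12 ∨ k.val = 13 ∨ k.val = 14 ∨ k.val = 15 ∨
        k.val = 16 ∨ k.val = 17 ∨ k.val = 18 ∨ k.val = 19 ∨ k.val = 20 ∨ k.val = 21 ∨ k.val = 22 ∨
        k.val = 23 := by omega
    · exact outside 0 0 e' (by rw [h]; simp [aa, raw, x_zero C, Vec.zero'])
    · exact outside 0 e' 0 (by rw [h]; simp [aa, raw, x_zero C, Vec.zero'])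
    · exact h01 (single ⟨e', 0, 0, 0, 0, 0, 0, 0, 0⟩ (by rw [h]; simp [raw, x_zero C])).1.symm
    · exact h01 (single ⟨0, 0, 0, e', 0, 0, 0, 0, 0⟩ (by rw [h]; simp [raw, x_zero C])).1.symm
    · exact h01 (single ⟨0, 0, e', 0, 0, 0, 0, 0, 0⟩ (by rw [h]; simp [raw, x_zero C])).1.symm
    · exact h01 (single ⟨0, 0, 0, 0, e', 0, 0, 0, 0⟩ (by rw [h]; simp [raw, x_zero C])).1.symm
    · exact outside e' 0 0 (by rw [h]; simp [aa, raw, x_zero C, Vec.zero'])
    · exact h01 (single ⟨0, e', 0, 0, 0, 0, 0, 0, 0⟩ (by rw [h]; simp [raw, x_zero C])).2.symm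
    · exact h01 (single ⟨0, 0, 0, 0, 0, e', 0, 0, 0⟩ (by rw [h]; simp [raw, x_zero C])).1.symm
    · exact h01 (single ⟨0, 0, 0, 0, 0, 0, e', 0, 0⟩ (by rw [h]; simp [raw, x_zero C])).1.symm
    · exact h01 (single ⟨0, 0, 0, 0, 0, 0, 0, e', 0⟩ (by rw [h]; simp [raw, x_zero C])).1.symm
    · exact h01 (single ⟨0, 0, 0, 0, 0, 0, 0, 0, e'⟩ (by rw [h]; simp [raw, x_zero C])).1.symm

end

variable [Fintype K] [CharP K 2] {q : ℕ}

theorem card_classes (hK : Fintype.card K = q ^ 3) :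
    (ConjClasses.mk '' {g : ↥(twistedD4 K q) | orderOf g = 2}).ncard = 2 := by
  classical
  obtain ⟨n, -, hn⟩ := FiniteField.card K 2
  obtain ⟨i, -, hi⟩ := (Nat.dvd_prime_pow Nat.prime_two).1
    (show q ∣ 2 ^ (n : ℕ) by rw [← hn, hK]; exact dvd_pow_self q (by norm_num))
  have hi0 : 0 < i := by
    rcases Nat.eq_zero_or_pos i with rfl | h
    · exfalso
      have h1 := Fintype.one_lt_card (α := K)
      rw [hK, hi] at h1
      simp at h1
    · exact h
  have hq : IsPrimePow q := hi ▸ (Nat.prime_two.isPrimePow.pow hi0.ne')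
  have h2q : Even q := by rw [hi]; exact (Nat.even_pow.2 ⟨even_two, hi0.ne'⟩)
  obtain ⟨f, hf'⟩ := H53.D4T.exists_f hq hK
  have hf : Frob q f := ⟨hf', fun t => by rw [hf', hf', hf', H53.D4T.qqq hK]⟩
  obtain ⟨C⟩ : Nonempty (Ctx chevD4) := H54.exists_ctx (by simp)
  have hEm : repE K ∈ twistedD4 K q := e_mem C hf (map_one f)
  have hBm : repB K ∈ twistedD4 K q := by
    have h := u_mem C hf (1 : K)
    rwa [map_one, map_one] at h
  set E : ↥(twistedD4 K q) := ⟨repE K, hEm⟩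
  set B : ↥(twistedD4 K q) := ⟨repB K, hBm⟩
  have hne : ∀ v : Vec K, v ≠ Vec.zero' → raw v * raw v = 1 → ∀ h : raw v ∈ twistedD4 K q,
      orderOf (⟨raw v, h⟩ : ↥(twistedD4 K q)) = 2 := by
    intro v hv h2 h
    refine orderOf_eq_prime (Subtype.ext ?_) fun e => raw_ne C hv (congrArg Subtype.val e)
    simpa [pow_two] using h2
  have hsq : ∀ v : Vec K, v.s * v.k + v.w0 * v.u0 + v.w1 * v.u1 + v.w2 * v.u2 = 0 →
      raw v * raw v = 1 := by
    intro v hv
    rw [raw_mul C, ← raw_zero C]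
    congr 1
    ext <;> simp only [Vec.add', Vec.zero'] <;> try exact CharTwo.add_self_eq_zero _
    linear_combination hv + v.e * (CharTwo.two_eq_zero : (2 : K) = 0)
  have hEo : orderOf E = 2 := hne _ (fun h => one_ne_zero (α := K) (congrArg Vec.e h)) (hsq _ (by simp)) hEm
  have hBo : orderOf B = 2 := hne _ (fun h => one_ne_zero (α := K) (congrArg Vec.u0 h)) (hsq _ (by simp)) hBm
  have hEB : ConjClasses.mk E ≠ ConjClasses.mk B := by
    intro h
    obtain ⟨c, hc⟩ := isConj_iff.1 (ConjClasses.mk_eq_mk_iff_isConj.1 h)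
    exact not_conj_reps C (H53.D4T.twisted_le q c.2) (congrArg Subtype.val hc)
  suffices himg : ConjClasses.mk '' {g : ↥(twistedD4 K q) | orderOf g = 2} =
      {ConjClasses.mk E, ConjClasses.mk B} by
    rw [himg, Set.ncard_pair hEB]
  refine Set.Subset.antisymm ?_ ?_
  swap
  · rintro z (rfl | rfl)
    · exact ⟨E, hEo, rfl⟩
    · exact ⟨B, hBo, rfl⟩
  rintro _ ⟨g, hg, rfl⟩
  replace hg : orderOf g = 2 := hg
  have : Fact (Nat.Prime 2) := ⟨Nat.prime_two⟩
  set U : Subgroup ↥(twistedD4 K q) :=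
    (chevD4.posUnipotent K ⊓ twistedD4 K q).subgroupOf (twistedD4 K q) with hU
  have hUc : Nat.card U = q ^ 12 := by
    rw [← H53.D4T.card_U hq hK]
    exact Nat.card_congr (Subgroup.subgroupOfEquivOfLe inf_le_right).toEquiv
  have hUp : IsPGroup 2 U := IsPGroup.of_card (n := i * 12) (by rw [hUc, hi, pow_mul])
  have hidx : ¬ 2 ∣ U.index := by
    have h := U.card_mul_index
    rw [hUc, H52.d4t_card hq hK, show q ^ 12 * (q ^ 2 - 1) * (q ^ 6 - 1) * (q ^ 8 + q ^ 4 + 1) =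
      q ^ 12 * ((q ^ 2 - 1) * (q ^ 6 - 1) * (q ^ 8 + q ^ 4 + 1)) by ring] at h
    rw [Nat.eq_of_mul_eq_mul_left (pow_pos hq.pos 12) h]
    have e1 : ∀ m, 0 < m → Odd (q ^ m - 1) := fun m hm => by
      have h1 : Even (q ^ m) := Nat.even_pow.2 ⟨h2q, hm.ne'⟩
      have h2 : 0 < q ^ m := pow_pos hq.pos m
      rcases h1 with ⟨a, ha⟩
      exact ⟨a - 1, by omega⟩
    have e3 : Odd (q ^ 8 + q ^ 4 + 1) :=
      ((Nat.even_pow.2 ⟨h2q, by norm_num⟩).add (Nat.even_pow.2 ⟨h2q, by norm_num⟩)).add_one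
    rw [← even_iff_two_dvd, Nat.not_even_iff_odd]
    exact ((e1 2 (by norm_num)).mul (e1 6 (by norm_num))).mul e3
  obtain ⟨Q, hQ⟩ := (IsPGroup.of_card (n := 1)
    (by rw [Nat.card_zpowers, hg]; rfl) :
    IsPGroup 2 ↥(Subgroup.zpowers g)).exists_le_sylow
  obtain ⟨c, hc⟩ := MulAction.exists_smul_eq ↥(twistedD4 K q) (hUp.toSylow hidx) Q
  have h1 : g ∈ ((c • hUp.toSylow hidx : Sylow 2 ↥(twistedD4 K q)) : Subgroup ↥(twistedD4 K q)) := by
    rw [hc]; exact hQ (Subgroup.mem_zpowers g)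
  rw [Sylow.coe_subgroup_smul, Subgroup.mem_smul_pointwise_iff_exists] at h1
  obtain ⟨u, hu, he⟩ := h1
  have hconj : IsConj u g := isConj_iff.2 ⟨c, he⟩
  have hu' : (u : GL chevD4.Idx K) ∈ chevD4.posUnipotent K :=
    (Subgroup.mem_inf.1 (Subgroup.mem_subgroupOf.1 hu)).1
  have hg2 : g * g = 1 := by rw [← pow_two, ← hg]; exact pow_orderOf_eq_one g
  obtain ⟨d, hd⟩ := isConj_iff.1 hconj.symm
  have hu2 : u * u = 1 := by
    rw [← hd, show d * g * d⁻¹ * (d * g * d⁻¹) = d * (g * g) * d⁻¹ by group, hg2]; group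
  have hu1 : u ≠ 1 := by
    rintro rfl
    rw [isConj_one_right.1 hconj] at hg
    simp at hg
  obtain ⟨h, hh, hrep⟩ := invol_pos C hf hq hK hu' u.2 (congrArg Subtype.val hu2)
    (fun h => hu1 (Subtype.ext h))
  rcases hrep with h' | h'
  · left
    exact ConjClasses.mk_eq_mk_iff_isConj.2 (hconj.symm.trans (isConj_iff.2 ⟨⟨h, hh⟩, Subtype.ext h'⟩))
  · right
    exact ConjClasses.mk_eq_mk_iff_isConj.2 (hconj.symm.trans (isConj_iff.2 ⟨⟨h, hh⟩, Subtype.ext h'⟩))

end H35.D4Invol
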