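import Cfsg.Agent.H35.D4Invol.Conj
import Cfsg.Agent.H53.TwistD4Res

/-!
The elements of ³D₄ in these coordinates.
-/

set_option autoImplicit false
set_option linter.unusedSectionVars false

open Cfsg.Lie
open scoped MatrixGroups

namespace H35.D4Invol

open H54

variable {K : Type*} [Field K]

/-- The short twisted root element for `p₁`. -/
noncomputable def tA (f : K ≃+* K) (t : K) : GL chevD4.Idx K := aa t (f t) (f (f t))

/-- Twisted coordinates. -/
def tv (f : K ≃+* K) (k u w s e : K) : Vec K := ⟨k, u, f u, f (f u), w, f w, f (f w), s, e⟩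

/-- The hypotheses on `q` and the Frobenius map `f`. -/
structure Frob (q : ℕ) (f : K ≃+* K) : Prop where
  eq : ∀ t, f t = t ^ q
  three : ∀ t, f (f (f t)) = t

variable (C : Ctx chevD4) [CharP K 2]

local notation "x" => H52.rt chevD4

include C

theorem nconj {i r : ℕ} (hi : i < 4) (hr : r < 24) (t : K) :
    H52.nElt chevD4 (chevD4.simple i) (1 : K) * x r t * (H52.nElt chevD4 (chevD4.simple i) (1 : K))⁻¹ =
      x (chevD4.reflectRoot i r) t :=
  H53.sig_conj_rt_two C.hC CharTwo.two_eq_zero hi hr t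

omit C in
theorem conj_list (n : GL chevD4.Idx K) (L : List (GL chevD4.Idx K)) :
    n * L.prod * n⁻¹ = (L.map fun g => n * g * n⁻¹).prod := by
  induction L with
  | nil => simp
  | cons a L ih => rw [List.map_cons, List.prod_cons, List.prod_cons, ← ih]; group

omit C in
/-- The Weyl element of the orbit of the middle node. -/
noncomputable def nb (K : Type*) [Field K] : GL chevD4.Idx K := H52.nElt chevD4 14 (1 : K)

omit C in
/-- The Weyl element of the orbit of the outer nodes. -/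
noncomputable def na (K : Type*) [Field K] : GL chevD4.Idx K :=
  H52.nElt chevD4 18 (1 : K) * H52.nElt chevD4 13 1 * H52.nElt chevD4 12 1

theorem nb_conj {r s : ℕ} (hr : r < 24) (h : chevD4.reflectRoot 1 r = s) (t : K) :
    nb K * x r t * (nb K)⁻¹ = x s t := by
  have := nconj C (i := 1) (by norm_num) hr t
  rw [show chevD4.simple 1 = 14 by decide +kernel, h] at this
  exact this

theorem na_conj {r s : ℕ} (hr : r < 24) (h1 : chevD4.reflectRoot 3 r < 24)
    (h2 : chevD4.reflectRoot 2 (chevD4.reflectRoot 3 r) < 24)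
    (h : chevD4.reflectRoot 0 (chevD4.reflectRoot 2 (chevD4.reflectRoot 3 r)) = s) (t : K) :
    na K * x r t * (na K)⁻¹ = x s t := by
  have e3 := nconj C (i := 3) (by norm_num) hr t
  have e2 := nconj C (i := 2) (by norm_num) h1 t
  have e0 := nconj C (i := 0) (by norm_num) h2 t
  rw [show chevD4.simple 3 = 12 by decide +kernel] at e3
  rw [show chevD4.simple 2 = 13 by decide +kernel] at e2
  rw [show chevD4.simple 0 = 18 by decide +kernel, h] at e0
  rw [← e0, ← e2, ← e3, na]
  group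

theorem nb_aa (a b c e : K) :
    nb K * (aa a b c * raw ⟨0, 0, 0, 0, 0, 0, 0, 0, e⟩) * (nb K)⁻¹ = raw ⟨0, a, b, c, 0, 0, 0, e, 0⟩ := by
  have h := conj_list (nb K) [x 18 a, x 13 b, x 12 c, x 23 e]
  simp only [List.map_cons, List.map_nil, List.prod_cons, List.prod_nil, mul_one] at h
  rw [nb_conj C (r := 18) (s := 19) (by norm_num) (by decide +kernel),
    nb_conj C (r := 13) (s := 16) (by norm_num) (by decide +kernel),
    nb_conj C (r := 12) (s := 15) (by norm_num) (by decide +kernel),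
    nb_conj C (r := 23) (s := 22) (by norm_num) (by decide +kernel)] at h
  have e1 : aa a b c * raw ⟨0, 0, 0, 0, 0, 0, 0, 0, e⟩ = x 18 a * (x 13 b * (x 12 c * x 23 e)) := by
    simp [aa, raw, x_zero C, mul_assoc]
  rw [e1, h]
  simp [raw, x_zero C, mul_assoc]

theorem nb_s (s : K) : nb K * raw ⟨0, 0, 0, 0, 0, 0, 0, s, 0⟩ * (nb K)⁻¹ =
    raw ⟨0, 0, 0, 0, 0, 0, 0, 0, s⟩ := by
  simp only [raw, x_zero C, one_mul, mul_one]
  exact nb_conj C (r := 22) (s := 23) (by norm_num) (by decide +kernel) s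

theorem na_raw (v : Vec K) :
    na K * raw v * (na K)⁻¹ = raw ⟨v.s, v.w0, v.w1, v.w2, v.u0, v.u1, v.u2, v.k,
      v.e + (v.s * v.k + v.w0 * v.u0 + v.w1 * v.u1 + v.w2 * v.u2)⟩ := by
  have h := conj_list (na K) [x 14 v.k, x 19 v.u0, x 16 v.u1, x 15 v.u2, x 17 v.w0, x 20 v.w1,
    x 21 v.w2, x 22 v.s, x 23 v.e]
  simp only [List.map_cons, List.map_nil, List.prod_cons, List.prod_nil, mul_one] at h
  rw [na_conj C (r := 14) (s := 22) (by norm_num) (by decide +kernel) (by decide +kernel) (by decide +kernel),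
    na_conj C (r := 19) (s := 17) (by norm_num) (by decide +kernel) (by decide +kernel) (by decide +kernel),
    na_conj C (r := 16) (s := 20) (by norm_num) (by decide +kernel) (by decide +kernel) (by decide +kernel),
    na_conj C (r := 15) (s := 21) (by norm_num) (by decide +kernel) (by decide +kernel) (by decide +kernel),
    na_conj C (r := 17) (s := 19) (by norm_num) (by decide +kernel) (by decide +kernel) (by decide +kernel),
    na_conj C (r := 20) (s := 16) (by norm_num) (by decide +kernel) (by decide +kernel) (by decide +kernel),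
    na_conj C (r := 21) (s := 15) (by norm_num) (by decide +kernel) (by decide +kernel) (by decide +kernel),
    na_conj C (r := 22) (s := 14) (by norm_num) (by decide +kernel) (by decide +kernel) (by decide +kernel),
    na_conj C (r := 23) (s := 23) (by norm_num) (by decide +kernel) (by decide +kernel) (by decide +kernel)] at h
  rw [raw, show ∀ a b c d e g i j l : GL chevD4.Idx K,
    a * b * c * d * e * g * i * j * l = a * (b * (c * (d * (e * (g * (i * (j * l))))))) from
      fun a b c d e g i j l => by group, h]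
  rw [← one_mul (x 22 v.k * _), ← raw_zero C]
  simp only [← mul_assoc, raw_mul_k C, raw_mul_u0 C, raw_mul_u1 C, raw_mul_u2 C, raw_mul_w0 C,
    raw_mul_w1 C, raw_mul_w2 C, raw_mul_s C, raw_mul_e C]
  congr 1
  ext <;> simp [Vec.zero'] <;> ring

section Mem

variable {q : ℕ} {f : K ≃+* K} (hf : Frob q f)
include hf

theorem tA_mem (t : K) : tA f t ∈ twistedD4 K q := by
  have h := H53.D4T.triple_mem q (a := 18) (b := 13) (c := 12) (by decide) t
  rw [H53.D4T.sq_pow, ← hf.eq, ← hf.eq] at h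
  exact h

theorem b_mem {k : K} (hk : f k = k) : x 14 k ∈ twistedD4 K q :=
  H53.D4T.single_mem (by decide) (by rw [← hf.eq, hk])

omit C in
theorem qqq (t : K) : ((t ^ q) ^ q) ^ q = t := by rw [← hf.eq, ← hf.eq, ← hf.eq, hf.three]

omit C in
theorem nb_mem : nb K ∈ twistedD4 K q := by
  have h := H53.D4T.mk_mem (qqq hf) (0 : Fin 2)
  rw [Subgroup.mem_subgroupOf, H53.D4T.coe_mk] at h
  have e : ((H53.D4T.spec.word 0).map fun i => H52.nElt chevD4 (chevD4.simple i.val) (1 : K)).prod =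
      nb K :=
    (mul_one _).trans (congrArg (fun z => H52.nElt chevD4 z (1 : K)) (H53.D4T.simple_val (1 : Fin 4)).1)
  rwa [e] at h

omit C in
theorem na_mem : na K ∈ twistedD4 K q := by
  have h := H53.D4T.mk_mem (qqq hf) (1 : Fin 2)
  rw [Subgroup.mem_subgroupOf, H53.D4T.coe_mk] at h
  have e : ((H53.D4T.spec.word 1).map fun i => H52.nElt chevD4 (chevD4.simple i.val) (1 : K)).prod =
      na K := by
    show H52.nElt chevD4 (chevD4.simple (0 : Fin 4).val) (1 : K) *
      (H52.nElt chevD4 (chevD4.simple (2 : Fin 4).val) 1 *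
        (H52.nElt chevD4 (chevD4.simple (3 : Fin 4).val) 1 * 1)) = _
    rw [(H53.D4T.simple_val 0).1, (H53.D4T.simple_val 2).1, (H53.D4T.simple_val 3).1, mul_one, ← mul_assoc]
    rfl
  rwa [e] at h

theorem k_mem {k : K} (hk : f k = k) : raw ⟨k, 0, 0, 0, 0, 0, 0, 0, 0⟩ ∈ twistedD4 K q := by
  simpa [raw, x_zero C] using b_mem C hf hk

theorem u_mem (u : K) : raw ⟨0, u, f u, f (f u), 0, 0, 0, 0, 0⟩ ∈ twistedD4 K q := by
  have h := nb_aa C u (f u) (f (f u)) 0
  rw [show (⟨0, 0, 0, 0, 0, 0, 0, 0, 0⟩ : Vec K) = Vec.zero' from rfl, raw_zero C, mul_one] at h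
  rw [← h]
  exact mul_mem (mul_mem (nb_mem hf) (tA_mem C hf u)) (inv_mem (nb_mem hf))

theorem w_mem (w : K) : raw ⟨0, 0, 0, 0, w, f w, f (f w), 0, 0⟩ ∈ twistedD4 K q := by
  have h := na_raw C ⟨0, w, f w, f (f w), 0, 0, 0, 0, 0⟩
  simp only [mul_zero, zero_mul, add_zero] at h
  rw [← h]
  exact mul_mem (mul_mem (na_mem hf) (u_mem C hf w)) (inv_mem (na_mem hf))

theorem s_mem {s : K} (hs : f s = s) : raw ⟨0, 0, 0, 0, 0, 0, 0, s, 0⟩ ∈ twistedD4 K q := by
  have h := na_raw C ⟨s, 0, 0, 0, 0, 0, 0, 0, 0⟩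
  simp only [mul_zero, zero_mul, add_zero] at h
  rw [← h]
  exact mul_mem (mul_mem (na_mem hf) (k_mem C hf hs)) (inv_mem (na_mem hf))

theorem e_mem {e : K} (he : f e = e) : raw ⟨0, 0, 0, 0, 0, 0, 0, 0, e⟩ ∈ twistedD4 K q := by
  rw [← nb_s C e]
  exact mul_mem (mul_mem (nb_mem hf) (s_mem C hf he)) (inv_mem (nb_mem hf))

theorem tv_mem {k s e : K} (u w : K) (hk : f k = k) (hs : f s = s) (he : f e = e) :
    raw (tv f k u w s e) ∈ twistedD4 K q := by
  have h := mul_mem (mul_mem (mul_mem (mul_mem (k_mem C hf hk) (u_mem C hf u)) (w_mem C hf w))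
    (s_mem C hf hs)) (e_mem C hf he)
  rw [raw_mul C, raw_mul C, raw_mul C, raw_mul C] at h
  simpa [Vec.add', tv] using h

theorem raw_pos (v : Vec K) : raw v ∈ chevD4.posUnipotent K := by
  simp only [raw]
  repeat' apply mul_mem
  all_goals exact C.hC.rt_mem_pos (by decide) (by decide) _

theorem aa_pos (a b c : K) : aa a b c ∈ chevD4.posUnipotent K := by
  simp only [aa]
  repeat' apply mul_mem
  all_goals exact C.hC.rt_mem_pos (by decide) (by decide) _

/-- Every element of `U¹` in coordinates. -/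
theorem exists_coord [Fintype K] (hq : IsPrimePow q) (hK : Fintype.card K = q ^ 3) {g : GL chevD4.Idx K}
    (hg : g ∈ chevD4.posUnipotent K) (hgt : g ∈ twistedD4 K q) :
    ∃ t k u w s e : K, f k = k ∧ f s = s ∧ f e = e ∧ g = tA f t * raw (tv f k u w s e) := by
  classical
  let Fx := {t : K // t ^ q = t}
  let φ : K × K × K × Fx × Fx × Fx → ↥(chevD4.posUnipotent K ⊓ twistedD4 K q) := fun p =>
    ⟨tA f p.1 * raw (tv f p.2.2.2.1.1 p.2.1 p.2.2.1 p.2.2.2.2.1.1 p.2.2.2.2.2.1),
      mul_mem (aa_pos C hf _ _ _) (raw_pos C hf _),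
      mul_mem (tA_mem C hf _) (tv_mem C hf _ _ (by rw [hf.eq]; exact p.2.2.2.1.2)
        (by rw [hf.eq]; exact p.2.2.2.2.1.2) (by rw [hf.eq]; exact p.2.2.2.2.2.2))⟩
  have hinj : Function.Injective φ := by
    rintro ⟨t, u, w, k, s, e⟩ ⟨t', u', w', k', s', e'⟩ h
    obtain ⟨h1, -, -, h4⟩ := coord_inj C (congrArg Subtype.val h)
    simp only [tv, Vec.mk.injEq] at h4
    obtain ⟨a1, a2, -, -, a5, -, -, a8, a9⟩ := h4
    simp only [Prod.mk.injEq]
    exact ⟨h1, a2, a5, Subtype.ext a1, Subtype.ext a8, Subtype.ext a9⟩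
  have hFx : Fintype.card Fx = q := by
    rw [← Nat.card_eq_fintype_card]; exact H53.card_pow_fixed hq.one_lt hK
  have hcard : Nat.card (K × K × K × Fx × Fx × Fx) =
      Nat.card ↥(chevD4.posUnipotent K ⊓ twistedD4 K q) := by
    rw [H53.D4T.card_U hq hK]
    simp only [Nat.card_eq_fintype_card, Fintype.card_prod, hFx, hK]
    ring
  obtain ⟨⟨t, u, w, ⟨k, hk⟩, ⟨s, hs⟩, ⟨e, he⟩⟩, hp⟩ :=
    ((Nat.bijective_iff_injective_and_card φ).2 ⟨hinj, hcard⟩).2 ⟨g, hg, hgt⟩
  exact ⟨t, k, u, w, s, e, by rw [hf.eq, hk], by rw [hf.eq, hs], by rw [hf.eq, he],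
    (congrArg Subtype.val hp).symm⟩

end Mem

section Torus

variable {q : ℕ} {f : K ≃+* K} (hf : Frob q f)
include hf

omit hf in
theorem comm_n {a b : ℕ} (ha : a ∈ [18, 13, 12]) (hb : b ∈ [18, 13, 12]) (hne : b ≠ a)
    (t u : K) :
    Commute (H52.nElt chevD4 a t) (H52.nElt chevD4 b u) := by
  have six : ∀ {a b : ℕ}, a ∈ [18, 13, 12] → b ∈ [18, 13, 12] → b ≠ a →
      (a ∈ [18, 13, 12, 5, 10, 11] ∧ chevD4.neg a ∈ [18, 13, 12, 5, 10, 11]) ∧
      b ≠ chevD4.neg a ∧ chevD4.neg b ≠ chevD4.neg a ∧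
      b ≠ chevD4.neg (chevD4.neg a) ∧ chevD4.neg b ≠ chevD4.neg (chevD4.neg a) := by
    intro a b ha hb hne
    simp only [List.mem_cons, List.not_mem_nil, or_false] at ha hb
    rcases ha with rfl | rfl | rfl <;> rcases hb with rfl | rfl | rfl <;>
      first | exact absurd rfl hne | decide +kernel
  obtain ⟨⟨a1, a2⟩, n1, n2, n3, n4⟩ := six ha hb hne
  obtain ⟨⟨b1, b2⟩, -⟩ := six hb ha (Ne.symm hne)
  rw [H52.Checked.nElt_eq, H52.Checked.nElt_eq]
  have k1 : ∀ y : K, Commute (x a y) (x b u * x (chevD4.neg b) (-u⁻¹) * x b u) := fun y =>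
    ((H53.D4T.rt_comm a1 b1 n1 y u).mul_right (H53.D4T.rt_comm a1 b2 n2 y (-u⁻¹))).mul_right
      (H53.D4T.rt_comm a1 b1 n1 y u)
  have k2 : ∀ y : K, Commute (x (chevD4.neg a) y) (x b u * x (chevD4.neg b) (-u⁻¹) * x b u) := fun y =>
    ((H53.D4T.rt_comm a2 b1 n3 y u).mul_right (H53.D4T.rt_comm a2 b2 n4 y (-u⁻¹))).mul_right
      (H53.D4T.rt_comm a2 b1 n3 y u)
  exact ((k1 t).mul_left (k2 (-t⁻¹))).mul_left (k1 t)

theorem n_triple_mem (t : K) :
    H52.nElt chevD4 18 t * H52.nElt chevD4 13 (f t) * H52.nElt chevD4 12 (f (f t)) ∈ twistedD4 K q := by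
  have e1 := tA_mem C hf t
  have e2 : x 5 (-t⁻¹) * x 10 (-(f t)⁻¹) * x 11 (-(f (f t))⁻¹) ∈ twistedD4 K q := by
    have := H53.D4T.triple_mem q (a := 5) (b := 10) (c := 11) (by decide) (-t⁻¹)
    rw [H53.D4T.sq_pow, ← hf.eq, ← hf.eq] at this
    simpa using this
  have h := mul_mem (mul_mem e1 e2) e1
  have c : ∀ {a b : ℕ}, a ∈ [18, 13, 12, 5, 10, 11] → b ∈ [18, 13, 12, 5, 10, 11] →
      b ≠ chevD4.neg a → ∀ y z : K, Commute (x a y) (x b z) := fun ha hb h y z => H53.D4T.rt_comm ha hb h y z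
  rw [H52.Checked.nElt_eq, H52.Checked.nElt_eq, H52.Checked.nElt_eq,
    show chevD4.neg 18 = 5 by decide +kernel, show chevD4.neg 13 = 10 by decide +kernel,
    show chevD4.neg 12 = 11 by decide +kernel]
  rw [H53.mul3_comm (c (by decide) (by decide) (by decide +kernel) _ _) (c (by decide) (by decide) (by decide +kernel) _ _)
      (c (by decide) (by decide) (by decide +kernel) _ _),
    H53.mul3_comm ((c (by decide) (by decide) (by decide +kernel) _ _).mul_left (c (by decide) (by decide) (by decide +kernel) _ _))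
      ((c (by decide) (by decide) (by decide +kernel) _ _).mul_left (c (by decide) (by decide) (by decide +kernel) _ _))
      ((c (by decide) (by decide) (by decide +kernel) _ _).mul_left (c (by decide) (by decide) (by decide +kernel) _ _))]
  exact h

omit C in
/-- Torus coordinates. -/
def tc (f : K ≃+* K) (c d : Kˣ) : Fin chevD4.rank → Kˣ :=
  fun i => [c, d, Units.map f.toMonoidHom c, Units.map f.toMonoidHom (Units.map f.toMonoidHom c)].getD i.val 1

/-- The twisted torus. -/
theorem torus_mem (c d : Kˣ) (hd : f (d : K) = d) :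
    H52.torus chevD4 (F := K) (tc f c d) ∈ twistedD4 K q := by
  rw [C.hC.torus_eq_prod]
  have hl : List.finRange chevD4.rank = [⟨0, by decide⟩, ⟨1, by decide⟩, ⟨2, by decide⟩, ⟨3, by decide⟩] := rfl
  rw [hl]
  simp only [List.map_cons, List.map_nil, List.prod_cons, List.prod_nil, mul_one,
    show chevD4.simple 0 = 18 by decide +kernel, show chevD4.simple 1 = 14 by decide +kernel,
    show chevD4.simple 2 = 13 by decide +kernel, show chevD4.simple 3 = 12 by decide +kernel]
  show H52.hElt chevD4 18 (c : K) * (H52.hElt chevD4 14 (d : K) *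
    (H52.hElt chevD4 13 (f c) * H52.hElt chevD4 12 (f (f c)))) ∈ _
  have h14 : H52.hElt chevD4 14 (d : K) ∈ twistedD4 K q := by
    have hn : ∀ t : K, f t = t → H52.nElt chevD4 14 t ∈ twistedD4 K q := fun t ht => by
      rw [H52.Checked.nElt_eq, show chevD4.neg 14 = 9 by decide +kernel]
      have h9 : x 9 (-t⁻¹) ∈ twistedD4 K q :=
        H53.D4T.single_mem (by decide) (by rw [← hf.eq, map_neg, map_inv₀, ht])
      exact mul_mem (mul_mem (b_mem C hf ht) h9) (b_mem C hf ht)
    rw [H52.Checked.hElt_eq]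
    exact mul_mem (hn _ hd) (hn _ (by rw [map_neg, map_one]))
  have hcomm : Commute (H52.hElt chevD4 18 (c : K)) (H52.hElt chevD4 14 (d : K)) := by
    rw [C.hC.hElt_eq_torus (r := 18) (by decide) c, C.hC.hElt_eq_torus (r := 14) (by decide) d]
    show _ * _ = _ * _
    rw [← map_mul, ← map_mul, mul_comm]
  rw [← mul_assoc, hcomm.eq, mul_assoc]
  refine mul_mem h14 ?_
  have e := mul_mem (n_triple_mem C hf (c : K)) (n_triple_mem C hf (-1 : K))
  simp only [map_neg, map_one] at e
  convert e using 1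
  simp only [H52.Checked.hElt_eq]
  set a := H52.nElt chevD4 18 (c : K)
  set a' := H52.nElt chevD4 18 (-1 : K)
  set b := H52.nElt chevD4 13 (f c)
  set b' := H52.nElt chevD4 13 (-1 : K)
  set d' := H52.nElt chevD4 12 (f (f c))
  have k1 : Commute a' b := comm_n C (by decide) (by decide) (by decide) _ _
  have k2 : Commute a' d' := comm_n C (by decide) (by decide) (by decide) _ _
  have k3 : Commute b' d' := comm_n C (by decide) (by decide) (by decide) _ _
  calc a * a' * (b * b' * (d' * H52.nElt chevD4 12 (-1 : K)))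
      = a * (a' * b) * (b' * d') * H52.nElt chevD4 12 (-1 : K) := by group
    _ = a * b * (a' * d') * b' * H52.nElt chevD4 12 (-1 : K) := by rw [k1.eq, k3.eq]; group
    _ = _ := by rw [k2.eq]; group

end Torus

end H35.D4Invol
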